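import Cfsg.Agent.Bender42.Orbits

/-!
Every element at a point acts on the involutions there as an element of the two-point stabiliser, so
that the centraliser of those involutions is regular on the other points.
-/

set_option autoImplicit false
set_option linter.unusedSectionVars false

namespace Cfsg.Agent.Bender42

open scoped Classical
open Subgroup

universe w

variable {G : Type w} [Group G] [Finite G] {H K B : Subgroup G} {u z : G}

namespace Setup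

variable (S : Setup H K B u z)
include S

/-- The centraliser of `z` acts on the involutions at its point as `B`. -/
theorem cent_as_B (hodd : Odd (Nat.card B))
    (hrr : Nat.card B * (Nat.card B - 2) + 1 < Nat.card K)
    (hsize : 6 * Nat.card B < Nat.card K ∨ (Nat.card K = 2 * Nat.card B + 1 ∧ Nat.card B ≤ 3))
    {c : G} (hc : c ∈ H) (hz : c * z * c⁻¹ = z) :
    ∃ β ∈ B, ∀ k ∈ K, c * (k * z * k⁻¹) * c⁻¹ = β * (k * z * k⁻¹) * β⁻¹ := by
  have : Fintype G := Fintype.ofFinite G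
  let Kn := {l : K // l ≠ 1}
  choose f hfB hf using fun l : Kn => S.cent_orbit hodd hsize hc hz l.1.2
  have hact : ∀ l : Kn, c * ((l.1 : G) * z * (l.1 : G)⁻¹) * c⁻¹ =
      f l * ((l.1 : G) * z * (l.1 : G)⁻¹) * (f l)⁻¹ := fun l => by rw [hf l, S.B_act (hfB l)]
  have hne : ∀ l : Kn, (l.1 : G) ≠ 1 := fun l e => l.2 (Subtype.ext e)
  have hfix : ∀ {b b' m : G}, b ∈ B → b' ∈ B → m ∈ K → m ≠ 1 → b * m * b⁻¹ = b' * m * b'⁻¹ → b = b' :=
    fun {b b' m} hb hb' hm hm1 e => by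
      refine (inv_mul_eq_one.1 (S.B_fpf (mul_mem (inv_mem hb') hb) hm hm1 ?_)).symm
      calc b'⁻¹ * b * m * (b'⁻¹ * b)⁻¹ = b'⁻¹ * (b * m * b⁻¹) * b' := by group
        _ = m := by rw [e]; group
  -- the equation for two non-trivial elements
  have key : ∀ k l : Kn, ∃ τ ∈ B, (τ * (k.1 : G) * τ⁻¹)⁻¹ * (τ * (l.1 : G) * τ⁻¹) =
      (f k * (k.1 : G) * (f k)⁻¹)⁻¹ * (f l * (l.1 : G) * (f l)⁻¹) := fun k l => by
    obtain ⟨Tk, hTk⟩ : ∃ Tk, Tk = f k * (k.1 : G) * (f k)⁻¹ := ⟨_, rfl⟩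
    obtain ⟨Tl, hTl⟩ : ∃ Tl, Tl = f l * (l.1 : G) * (f l)⁻¹ := ⟨_, rfl⟩
    have hTkK : Tk ∈ K := hTk ▸ S.B_norm _ (hfB k) _ k.1.2
    have hTlK : Tl ∈ K := hTl ▸ S.B_norm _ (hfB l) _ l.1.2
    have hfk := hf k
    rw [← hTk] at hfk
    have hfl := hf l
    rw [← hTl] at hfl
    have hc'H : Tk⁻¹ * c * k.1 ∈ H := mul_mem (mul_mem (inv_mem (S.K_le hTkK)) hc) (S.K_le k.1.2)
    have hc'z : Tk⁻¹ * c * k.1 * z * (Tk⁻¹ * c * k.1)⁻¹ = z := by
      calc Tk⁻¹ * c * k.1 * z * (Tk⁻¹ * c * k.1)⁻¹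
          = Tk⁻¹ * (c * ((k.1 : G) * z * (k.1 : G)⁻¹) * c⁻¹) * Tk := by group
        _ = z := by rw [hfk]; group
    obtain ⟨τ, hτ, e⟩ := S.cent_orbit hodd hsize hc'H hc'z (mul_mem (inv_mem k.1.2) l.1.2)
    have e2 : Tk⁻¹ * c * k.1 * (((k.1 : G)⁻¹ * l.1) * z * ((k.1 : G)⁻¹ * l.1)⁻¹) * (Tk⁻¹ * c * k.1)⁻¹ =
        Tk⁻¹ * Tl * z * (Tk⁻¹ * Tl)⁻¹ := by
      calc _ = Tk⁻¹ * (c * ((l.1 : G) * z * (l.1 : G)⁻¹) * c⁻¹) * Tk := by group
        _ = _ := by rw [hfl]; group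
    rw [e2] at e
    have e3 := S.reg_unique (mul_mem (inv_mem hTkK) hTlK)
      (S.B_norm _ hτ _ (mul_mem (inv_mem k.1.2) l.1.2)) e
    refine ⟨τ, hτ, ?_⟩
    rw [← hTk, ← hTl, e3]
    group
  by_cases hall : ∀ k l : Kn, f k = f l
  · obtain ⟨k₀, hk₀, hk₀1⟩ := K.bot_or_exists_ne_one.resolve_left S.K_ne
    let l₀ : Kn := ⟨⟨k₀, hk₀⟩, fun e => hk₀1 (congrArg Subtype.val e)⟩
    refine ⟨f l₀, hfB l₀, fun k hk => ?_⟩
    by_cases hk1 : k = 1
    · subst hk1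
      simp only [one_mul, inv_one, mul_one, hz, ← (S.B_z _ (hfB l₀)).eq]
      simp [mul_assoc]
    · have e := hact ⟨⟨k, hk⟩, fun e => hk1 (congrArg Subtype.val e)⟩
      rwa [hall _ l₀] at e
  exfalso
  have hfibre : ∀ γ ∈ (Finset.univ : Finset Kn).image f,
      (Finset.univ.filter fun l => f l = γ).card ≤ Nat.card B - 2 := by
    intro γ hγ
    obtain ⟨l₁, -, rfl⟩ := Finset.mem_image.1 hγ
    obtain ⟨k, hk⟩ : ∃ k, f k ≠ f l₁ := by
      by_contra h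
      push Not at h
      exact hall fun a b => (h a).trans (h b).symm
    choose τ hτB hτ using fun l => key k l
    have hcard : (((Finset.univ : Finset B).erase ⟨f k, hfB k⟩).erase ⟨f l₁, hfB l₁⟩).card =
        Nat.card B - 2 := by
      rw [Finset.card_erase_of_mem, Finset.card_erase_of_mem (Finset.mem_univ _), Finset.card_univ,
        Nat.card_eq_fintype_card, Nat.sub_sub]
      exact Finset.mem_erase.2 ⟨fun e => hk (congrArg Subtype.val e).symm, Finset.mem_univ _⟩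
    rw [← hcard]
    refine Finset.card_le_card_of_injOn (fun l => (⟨τ l, hτB l⟩ : B)) (fun l hl => ?_) ?_
    · have hl' : f l = f l₁ := (Finset.mem_filter.1 hl).2
      refine Finset.mem_erase.2 ⟨fun e => ?_, Finset.mem_erase.2 ⟨fun e => ?_, Finset.mem_univ _⟩⟩
      · have e' : τ l = f l₁ := congrArg Subtype.val e
        have h := hτ l
        rw [e', ← hl', mul_left_inj, inv_inj] at h
        exact hk ((hfix (hfB k) (hfB l) k.1.2 (hne k) h.symm).trans hl')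
      · have e' : τ l = f k := congrArg Subtype.val e
        have h := hτ l
        rw [e', mul_right_inj] at h
        exact hk ((hfix (hfB k) (hfB l) l.1.2 (hne l) h).trans hl')
    · intro l hl l' hl' e
      have e' : τ l = τ l' := congrArg Subtype.val e
      have hl1 : f l = f l₁ := (Finset.mem_filter.1 hl).2
      have hl2 : f l' = f l₁ := (Finset.mem_filter.1 hl').2
      by_contra hne'
      have hm : (l'.1 : G)⁻¹ * l.1 ∈ K := mul_mem (inv_mem l'.1.2) l.1.2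
      have hm1 : (l'.1 : G)⁻¹ * l.1 ≠ 1 := fun h =>
        hne' (Subtype.ext (Subtype.ext (inv_mul_eq_one.1 h).symm))
      have h1 := hτ l
      have h2 := hτ l'
      rw [hl1] at h1
      rw [hl2, ← e'] at h2
      have h3 : τ l * ((l'.1 : G)⁻¹ * l.1) * (τ l)⁻¹ = f l₁ * ((l'.1 : G)⁻¹ * l.1) * (f l₁)⁻¹ := by
        calc τ l * ((l'.1 : G)⁻¹ * l.1) * (τ l)⁻¹
            = ((τ l * (k.1 : G) * (τ l)⁻¹)⁻¹ * (τ l * (l'.1 : G) * (τ l)⁻¹))⁻¹ *
              ((τ l * (k.1 : G) * (τ l)⁻¹)⁻¹ * (τ l * (l.1 : G) * (τ l)⁻¹)) := by group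
          _ = _ := by rw [h1, h2]; group
      have h4 := hfix (hτB l) (hfB l₁) hm hm1 h3
      have h5 := hτ l
      rw [h4, ← hl1, mul_left_inj, inv_inj] at h5
      exact hk ((hfix (hfB k) (hfB l) k.1.2 (hne k) h5.symm).trans hl1)
  have h1 := Finset.card_le_mul_card_image (Finset.univ : Finset Kn) _ hfibre
  have h2 : ((Finset.univ : Finset Kn).image f).card ≤ Nat.card B := by
    rw [← Nat.card_eq_finsetCard]
    refine Nat.card_le_card_of_injective (fun γ => (⟨γ.1, ?_⟩ : B)) fun a b e => Subtype.ext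
      (congrArg (fun x : B => (x : G)) e)
    obtain ⟨l, -, e⟩ := Finset.mem_image.1 γ.2
    exact e ▸ hfB l
  rw [Finset.card_univ, Fintype.card_subtype_compl, Fintype.card_subtype_eq,
    ← Nat.card_eq_fintype_card] at h1
  have h3 := Nat.mul_le_mul_left (Nat.card B - 2) h2
  rw [Nat.mul_comm (Nat.card B - 2) (Nat.card B)] at h3
  omega

end Setup

/-- In the residual configuration `H` has a regular normal subgroup. -/
theorem exists_regularNormal (S : Setup H K B u z) (hodd : Odd (Nat.card B))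
    (hrr : Nat.card B * (Nat.card B - 2) + 1 < Nat.card K)
    (hsize : 6 * Nat.card B < Nat.card K ∨ (Nat.card K = 2 * Nat.card B + 1 ∧ Nat.card B ≤ 3)) :
    ∃ Q : Subgroup G, BenderCons37.IsRegularNormal H Q := by
  obtain ⟨Q, hQ⟩ : ∃ Q, Q = H ⊓ centralizer {v : G | v ∈ H ∧ orderOf v = 2} := ⟨_, rfl⟩
  have hmem : ∀ {x : G}, x ∈ Q ↔ x ∈ H ∧ ∀ v ∈ H, orderOf v = 2 → v * x = x * v := fun {x} => by
    rw [hQ, mem_inf, mem_centralizer_iff]
    exact ⟨fun h => ⟨h.1, fun v hv hv' => h.2 v ⟨hv, hv'⟩⟩, fun h => ⟨h.1, fun v hv => h.2 v hv.1 hv.2⟩⟩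
  have hQH : Q ≤ H := fun x hx => (hmem.1 hx).1
  have hnorm : ∀ {h x : G}, h ∈ H → x ∈ Q → h * x * h⁻¹ ∈ Q := fun {h x} hh hx => by
    refine hmem.2 ⟨mul_mem (mul_mem hh (hQH hx)) (inv_mem hh), fun v hv hv' => ?_⟩
    have h1 := (hmem.1 hx).2 (h⁻¹ * v * h) (mul_mem (mul_mem (inv_mem hh) hv) hh)
      (by simpa using (TwoFusionB.orderOf_conj_eq h⁻¹ v).trans hv')
    calc v * (h * x * h⁻¹) = h * (h⁻¹ * v * h * x) * h⁻¹ := by group
      _ = h * (x * (h⁻¹ * v * h)) * h⁻¹ := by rw [h1]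
      _ = h * x * h⁻¹ * v := by group
  -- every element at the point is such a centraliser element times a two-point element
  have hdec : ∀ h ∈ H, ∃ q ∈ Q, ∃ d ∈ H, u * d * u⁻¹ ∈ H ∧ h = q * d := by
    intro h hh
    obtain ⟨k₀, hk₀, e⟩ := S.exists_rep hh
    have hc : k₀⁻¹ * h ∈ H := mul_mem (inv_mem (S.K_le hk₀)) hh
    have hcz : k₀⁻¹ * h * z * (k₀⁻¹ * h)⁻¹ = z := by
      calc k₀⁻¹ * h * z * (k₀⁻¹ * h)⁻¹ = k₀⁻¹ * (h * z * h⁻¹) * k₀ := by group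
        _ = z := by rw [← e]; group
    obtain ⟨β, hβ, hact⟩ := S.cent_as_B hodd hrr hsize hc hcz
    have hq : β⁻¹ * (k₀⁻¹ * h) ∈ Q := by
      refine hmem.2 ⟨mul_mem (inv_mem (S.B_le hβ)) hc, fun v hv hv' => ?_⟩
      obtain ⟨k, hk, rfl⟩ := S.reg v hv hv'
      have e1 := hact k hk
      calc k * z * k⁻¹ * (β⁻¹ * (k₀⁻¹ * h))
          = β⁻¹ * (β * (k * z * k⁻¹) * β⁻¹) * (k₀⁻¹ * h) := by group
        _ = β⁻¹ * (k₀⁻¹ * h * (k * z * k⁻¹) * (k₀⁻¹ * h)⁻¹) * (k₀⁻¹ * h) := by rw [e1]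
        _ = β⁻¹ * (k₀⁻¹ * h) * (k * z * k⁻¹) := by group
    refine ⟨k₀ * β * (β⁻¹ * (k₀⁻¹ * h)) * (k₀ * β)⁻¹,
      hnorm (mul_mem (S.K_le hk₀) (S.B_le hβ)) hq, k₀ * β, mul_mem (S.K_le hk₀) (S.B_le hβ), ?_,
      by group⟩
    rw [show u * (k₀ * β) * u⁻¹ = (u * k₀ * u⁻¹) * (u * β * u⁻¹) by group, S.inverts k₀ hk₀,
      S.conj_u_B hβ]
    exact mul_mem (inv_mem (S.K_le hk₀)) (S.B_le hβ)
  refine ⟨Q, hQH, ⟨?_⟩, fun g₁ g₂ hg₁ hg₂ => ?_, fun g hg x hx hxg => ?_⟩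
  · rintro ⟨x, hxH⟩ hx ⟨h, hh⟩
    rw [mem_subgroupOf] at hx ⊢
    exact hnorm hh hx
  · obtain ⟨a₁, ha₁, c₁, hc₁, rfl⟩ := S.out_coset hg₁
    obtain ⟨a₂, ha₂, c₂, hc₂, rfl⟩ := S.out_coset hg₂
    obtain ⟨q₁, hq₁, d₁, hd₁, hd₁', rfl⟩ := hdec a₁ ha₁
    obtain ⟨q₂, hq₂, d₂, hd₂, hd₂', rfl⟩ := hdec a₂ ha₂
    refine ⟨q₂ * q₁⁻¹, mul_mem hq₂ (inv_mem hq₁), ?_⟩
    have h1 : u * d₂⁻¹ * u⁻¹ * (u * d₁ * u⁻¹) ∈ H := by
      refine mul_mem ?_ hd₁'
      have := inv_mem hd₂'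
      rwa [mul_inv_rev, mul_inv_rev, inv_inv, ← mul_assoc] at this
    rw [show u * d₂⁻¹ * u⁻¹ * (u * d₁ * u⁻¹) = u * (d₂⁻¹ * d₁) * u⁻¹ by group] at h1
    have h2 := mul_mem (mul_mem (inv_mem hc₂) h1) hc₁
    rw [S.u_inv] at h2
    simpa [mul_assoc, S.u_inv] using h2
  · obtain ⟨a, ha, c, hc, rfl⟩ := S.out_coset hg
    have hy : a⁻¹ * x * a ∈ Q := by simpa using hnorm (inv_mem ha) hx
    have hyu : u * (a⁻¹ * x * a) * u⁻¹ ∈ H := by
      have := mul_mem (mul_mem hc hxg) (inv_mem hc)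
      simpa [mul_assoc, S.u_inv] using this
    obtain ⟨k, hk, b, hb, e⟩ := S.stab _ (hQH hy) hyu
    rw [e] at hy
    have hv : ∀ l ∈ K, k * (b * (l * z * l⁻¹) * b⁻¹) * k⁻¹ = l * z * l⁻¹ := fun l hl => by
      have h1 := (hmem.1 hy).2 (l * z * l⁻¹)
        (mul_mem (mul_mem (S.K_le hl) S.z_mem) (inv_mem (S.K_le hl)))
        ((TwoFusionB.orderOf_conj_eq _ _).trans S.z_ord)
      calc k * (b * (l * z * l⁻¹) * b⁻¹) * k⁻¹ = k * b * (l * z * l⁻¹) * (k * b)⁻¹ := by group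
        _ = l * z * l⁻¹ * (k * b) * (k * b)⁻¹ := by rw [h1]
        _ = l * z * l⁻¹ := by group
    have hk1 : k = 1 := by
      refine S.reg_unique hk (one_mem K) ?_
      have h1 := hv 1 (one_mem K)
      simp only [one_mul, inv_one, mul_one] at h1 ⊢
      rwa [← (S.B_z b hb).eq, mul_inv_cancel_right] at h1
    subst hk1
    obtain ⟨l, hl, hl1⟩ := K.bot_or_exists_ne_one.resolve_left S.K_ne
    have h1 := hv l hl
    simp only [one_mul, inv_one, mul_one] at h1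
    rw [S.B_act hb] at h1
    have hb1 := S.B_fpf hb hl hl1 (S.reg_unique (S.B_norm b hb l hl) hl h1)
    rw [hb1, mul_one] at e
    calc x = a * (a⁻¹ * x * a) * a⁻¹ := by group
      _ = 1 := by rw [e]; group

end Cfsg.Agent.Bender42
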