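import Cfsg.Agent.Bender20.CCSubgroup
import Cfsg.Agent.BenderCons37.Split

/-!
The last configuration in the proof that a strongly embedded subgroup `H` has a regular normal
subgroup: commuting involutions, on which an abelian part `K` of the two-point stabiliser is
regular, the rest `B` fixing one of them.
-/

set_option autoImplicit false

namespace Cfsg.Agent.Bender42

universe w

/-- The standing hypotheses. -/
structure Setup {G : Type w} [Group G] (H K B : Subgroup G) (u z : G) : Prop where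
  se : Cfsg.IsStronglyEmbedded H
  trans : ∀ g₁ g₂ : G, g₁ ∉ H → g₂ ∉ H → ∃ h ∈ H, g₂⁻¹ * (h * g₁) ∈ H
  comm : ∀ x ∈ H, ∀ y ∈ H, orderOf x = 2 → orderOf y = 2 → Commute x y
  u_ord : orderOf u = 2
  u_out : u ∉ H
  z_mem : z ∈ H
  z_ord : orderOf z = 2
  K_le : K ≤ H
  B_le : B ≤ H
  stab : ∀ d ∈ H, u * d * u⁻¹ ∈ H → ∃ k ∈ K, ∃ b ∈ B, d = k * b
  cc : Bender20.IsCC K
  K_ne : K ≠ ⊥
  reg : ∀ v ∈ H, orderOf v = 2 → ∃ k ∈ K, k * z * k⁻¹ = v
  inverts : ∀ k ∈ K, u * k * u⁻¹ = k⁻¹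
  B_u : ∀ b ∈ B, Commute u b
  B_z : ∀ b ∈ B, Commute z b
  B_norm : ∀ b ∈ B, ∀ k ∈ K, b * k * b⁻¹ ∈ K
  two_fix : ∀ k ∈ K, k ≠ 1 → ∀ g : G, g⁻¹ * k * g ∈ H → g ∈ H ∨ u * g ∈ H

end Cfsg.Agent.Bender42
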