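import Cfsg.Agent.Bender42.Setup
import Cfsg.Agent.InvChar68.CharTools
import Mathlib.GroupTheory.GroupAction.Quotient

/-!
The group theory of the residual configuration.
-/

set_option autoImplicit false
set_option linter.unusedSectionVars false

namespace Cfsg.Agent.Bender42

open Subgroup MulAction

universe w

variable {G : Type w} [Group G] [Finite G] {H K B : Subgroup G} {u z : G}

namespace Setup

variable (S : Setup H K B u z)
include S

theorem u_sq : u * u = 1 := TwoFusionB.sq_eq_one_of_inv S.u_ord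

theorem u_inv : u⁻¹ = u := TwoFusionB.inv_eq_of_inv S.u_ord

theorem odd_orderOf {x : G} (hx : x ∈ H) (hx' : u * x * u⁻¹ ∈ H) : Odd (orderOf x) := by
  refine (S.se.2.2 u S.u_out).of_dvd_nat (orderOf_dvd_natCard _ (mem_inf.2 ⟨hx, ⟨_, hx', ?_⟩⟩))
  simp [S.u_inv, ← mul_assoc, S.u_sq, mul_assoc x u u]

theorem conj_u_K {k : G} (hk : k ∈ K) : u * k * u⁻¹ ∈ H := by
  rw [S.inverts k hk]; exact inv_mem (S.K_le hk)

theorem conj_u_B {b : G} (hb : b ∈ B) : u * b * u⁻¹ = b := by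
  rw [(S.B_u b hb).eq, mul_inv_cancel_right]

theorem odd_K {k : G} (hk : k ∈ K) : Odd (orderOf k) := S.odd_orderOf (S.K_le hk) (S.conj_u_K hk)

theorem odd_B {b : G} (hb : b ∈ B) : Odd (orderOf b) :=
  S.odd_orderOf (S.B_le hb) (by rw [S.conj_u_B hb]; exact S.B_le hb)

theorem odd_card_sub {L : Subgroup G} (hL : ∀ x ∈ L, Odd (orderOf x)) : Odd (Nat.card L) := by
  by_contra h
  have : Fact (Nat.Prime 2) := ⟨Nat.prime_two⟩
  obtain ⟨t, ht, hto⟩ := Involution.exists_involution_of_even (Nat.not_odd_iff_even.1 h)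
  have := hL t ht
  rw [hto] at this
  exact absurd this (by decide)

theorem odd_card_K : Odd (Nat.card K) := S.odd_card_sub fun _ => S.odd_K

theorem odd_card_B : Odd (Nat.card B) := S.odd_card_sub fun _ => S.odd_B

theorem K_inter_cent {k : G} (hk : k ∈ K) (h : Commute z k) : k = 1 := by
  by_contra h1
  have := S.odd_K (S.cc.mem_of_commute hk h1 h.eq)
  rw [S.z_ord] at this
  exact absurd this (by decide)

theorem K_inter_B {k : G} (hk : k ∈ K) (hk' : k ∈ B) : k = 1 :=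
  S.K_inter_cent hk (S.B_z k hk')

theorem reg_unique {k l : G} (hk : k ∈ K) (hl : l ∈ K) (h : k * z * k⁻¹ = l * z * l⁻¹) : k = l := by
  refine (inv_mul_eq_one.1 (S.K_inter_cent (mul_mem (inv_mem hl) hk) ?_)).symm
  show z * (l⁻¹ * k) = l⁻¹ * k * z
  calc z * (l⁻¹ * k) = l⁻¹ * (l * z * l⁻¹) * k := by group
    _ = l⁻¹ * (k * z * k⁻¹) * k := by rw [h]
    _ = l⁻¹ * k * z := by group

theorem mul_unique {k l b c : G} (hk : k ∈ K) (hl : l ∈ K) (hb : b ∈ B) (hc : c ∈ B)
    (h : k * b = l * c) : k = l ∧ b = c := by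
  have h1 : l⁻¹ * k = c * b⁻¹ := by
    rw [eq_mul_inv_iff_mul_eq, mul_assoc, inv_mul_eq_iff_eq_mul, h]
  have h2 := S.K_inter_B (mul_mem (inv_mem hl) hk) (h1 ▸ mul_mem hc (inv_mem hb))
  rw [inv_mul_eq_one] at h2
  subst h2
  exact ⟨rfl, mul_left_cancel h⟩

theorem B_fpf {b k : G} (hb : b ∈ B) (hk : k ∈ K) (hk1 : k ≠ 1) (h : b * k * b⁻¹ = k) : b = 1 :=
  S.K_inter_B (S.cc.mem_of_commute hk hk1 (mul_inv_eq_iff_eq_mul.1 h)) hb

theorem B_act {b k : G} (hb : b ∈ B) :
    b * (k * z * k⁻¹) * b⁻¹ = b * k * b⁻¹ * z * (b * k * b⁻¹)⁻¹ := by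
  calc b * (k * z * k⁻¹) * b⁻¹ = b * k * b⁻¹ * (b * z) * k⁻¹ * b⁻¹ := by group
    _ = b * k * b⁻¹ * (z * b) * k⁻¹ * b⁻¹ := by rw [(S.B_z b hb).eq]
    _ = b * k * b⁻¹ * z * (b * k * b⁻¹)⁻¹ := by group

theorem conj_mem_iff {x : G} : x * z * x⁻¹ ∈ H ↔ x ∈ H :=
  ⟨(Involution.stronglyEmbedded_iff.1 S.se).2.2 x z S.z_mem S.z_ord,
    fun hx => mul_mem (mul_mem hx S.z_mem) (inv_mem hx)⟩

theorem cent_le : centralizer ({z} : Set G) ≤ H := fun g hg => by
  refine S.conj_mem_iff.1 ?_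
  rw [mem_centralizer_singleton_iff.1 hg, mul_inv_cancel_right]
  exact S.z_mem

/-- An element of `H` moves `z` as a unique element of `K`. -/
theorem exists_rep {h : G} (hh : h ∈ H) :
    ∃ k ∈ K, k * z * k⁻¹ = h * z * h⁻¹ :=
  S.reg _ (mul_mem (mul_mem hh S.z_mem) (inv_mem hh))
    ((TwoFusionB.orderOf_conj_eq h z).trans S.z_ord)

/-- The involutions exchanging the two points. -/
theorem swap {p : G} (hp : orderOf p = 2) (h : p * u ∈ H) : ∃ k ∈ K, p = u * k := by
  have hpp := TwoFusionB.sq_eq_one_of_inv hp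
  have hconj : u * (p * u) * u⁻¹ = (p * u)⁻¹ := by
    rw [mul_inv_rev, S.u_inv, TwoFusionB.inv_eq_of_inv hp, ← mul_assoc, mul_assoc (u * p) u u,
      S.u_sq, mul_one]
  obtain ⟨k, hk, b, hb, e⟩ := S.stab _ h (hconj ▸ inv_mem h)
  have hp' : p = k * b * u := by rw [← e, mul_assoc, S.u_sq, mul_one]
  have hb2 : b * b ∈ K := by
    have e1 : u * k = k⁻¹ * u := mul_inv_eq_iff_eq_mul.1 (S.inverts k hk)
    have h1 : k * ((b * k * b⁻¹)⁻¹) * (b * b) = 1 := by
      calc k * ((b * k * b⁻¹)⁻¹) * (b * b) = k * b * k⁻¹ * (b * (u * u)) := by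
            rw [S.u_sq, mul_one]; group
        _ = k * b * k⁻¹ * (b * u * u) := by group
        _ = k * b * k⁻¹ * (u * b * u) := by rw [(S.B_u b hb).eq]
        _ = k * b * (k⁻¹ * u) * b * u := by group
        _ = k * b * (u * k) * b * u := by rw [e1]
        _ = (k * b * u) * (k * b * u) := by group
        _ = 1 := by rw [← hp', hpp]
    rw [← inv_eq_of_mul_eq_one_right h1]
    exact inv_mem (mul_mem hk (inv_mem (S.B_norm b hb k hk)))
  have hb1 : b = 1 := by
    have h1 : b * b = 1 := S.K_inter_B hb2 (mul_mem hb hb)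
    by_contra hne
    have := S.odd_B hb
    rw [BenderCons37.orderOf_eq_two hne h1] at this
    exact absurd this (by decide)
  refine ⟨k⁻¹, inv_mem hk, ?_⟩
  rw [hp', hb1, mul_one, ← mul_inv_eq_iff_eq_mul.1
    (by rw [S.inverts _ (inv_mem hk), inv_inv] : u * k⁻¹ * u⁻¹ = k)]

theorem uK_inv {k : G} (hk : k ∈ K) : orderOf (u * k) = 2 := by
  have h2 : u * k * (u * k) = 1 := by
    have := S.inverts k hk
    rw [S.u_inv] at this
    rw [← mul_assoc, this, inv_mul_cancel]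
  refine BenderCons37.orderOf_eq_two (fun e => S.u_out ?_) h2
  rw [mul_eq_one_iff_eq_inv] at e
  exact e ▸ inv_mem (S.K_le hk)

/-- The involutions outside `H`. -/
theorem out_form {p : G} (hp : orderOf p = 2) (hpH : p ∉ H) :
    ∃ h ∈ H, ∃ k ∈ K, p = h * (u * k) * h⁻¹ := by
  obtain ⟨h, hh, hmem⟩ := S.trans u p S.u_out hpH
  rw [TwoFusionB.inv_eq_of_inv hp] at hmem
  obtain ⟨k, hk, e⟩ := S.swap (p := h⁻¹ * p * h)
    (by simpa using (TwoFusionB.orderOf_conj_eq h⁻¹ p).trans hp)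
    (by rw [show h⁻¹ * p * h * u = h⁻¹ * (p * (h * u)) by group]; exact mul_mem (inv_mem hh) hmem)
  exact ⟨h, hh, k, hk, by rw [← e]; group⟩

theorem out_coset {g : G} (hg : g ∉ H) : ∃ h ∈ H, ∃ h' ∈ H, g = h * u * h' := by
  obtain ⟨h, hh, hmem⟩ := S.trans u g S.u_out hg
  exact ⟨h, hh, _, inv_mem hmem, by group⟩

theorem normalizer_form {y : G} (hy : y ∈ normalizer (K : Set G)) :
    ∃ k ∈ K, ∃ b ∈ B, y = k * b ∨ y = u * (k * b) := by
  obtain ⟨k₀, hk₀, hk₀1⟩ := K.bot_or_exists_ne_one.resolve_left S.K_ne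
  have hN : ∀ y : G, y ∈ normalizer (K : Set G) → y⁻¹ * k₀ * y ∈ K := fun y hy => by
    have := (mem_normalizer_iff.1 (inv_mem hy) k₀).1 hk₀
    rwa [inv_inv] at this
  have hu : u ∈ normalizer (K : Set G) := by
    refine mem_normalizer_iff.2 fun g => ⟨fun hg => ?_, fun hg => ?_⟩
    · rw [S.inverts g hg]; exact inv_mem hg
    · have := S.inverts _ hg
      rw [S.u_inv] at this hg
      have e : g = u * (u * g * u) * u := by
        simp [← mul_assoc, S.u_sq, mul_assoc g u u]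
      rw [e, this]; exact inv_mem hg
  have key : ∀ y : G, y ∈ normalizer (K : Set G) → y ∈ H → ∃ k ∈ K, ∃ b ∈ B, y = k * b := by
    intro y hyN hy
    refine S.stab y hy ?_
    have h1 : (y * u)⁻¹ * k₀ * (y * u) ∈ H := S.K_le (hN _ (mul_mem hyN hu))
    rcases S.two_fix k₀ hk₀ hk₀1 _ h1 with h | h
    · exact absurd ((mul_mem_cancel_left hy).1 h) S.u_out
    · rw [S.u_inv]; simpa [mul_assoc] using h
  rcases S.two_fix k₀ hk₀ hk₀1 y (S.K_le (hN y hy)) with h | h
  · obtain ⟨k, hk, b, hb, e⟩ := key y hy h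
    exact ⟨k, hk, b, hb, Or.inl e⟩
  · obtain ⟨k, hk, b, hb, e⟩ := key _ (mul_mem hu hy) h
    refine ⟨k, hk, b, hb, Or.inr ?_⟩
    rw [← e, ← mul_assoc, S.u_sq, one_mul]

/-- `|H|` is the product of `|K|` and the order of the centraliser of `z`. -/
theorem card_H : Nat.card H = Nat.card K * Nat.card (centralizer ({z} : Set G)) := by
  rw [← Nat.card_prod]
  refine (Nat.card_eq_of_bijective (fun q : K × centralizer ({z} : Set G) =>
    (⟨q.1 * q.2, mul_mem (S.K_le q.1.2) (S.cent_le q.2.2)⟩ : H)) ⟨fun a b e => ?_, fun h => ?_⟩).symm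
  · have e' : (a.1 : G) * a.2 = b.1 * b.2 := congrArg Subtype.val e
    have h1 : (a.1 : G) = b.1 := by
      refine S.reg_unique a.1.2 b.1.2 ?_
      have hc : ∀ c : centralizer ({z} : Set G), (c : G) * z * (c : G)⁻¹ = z := fun c => by
        rw [mem_centralizer_singleton_iff.1 c.2, mul_inv_cancel_right]
      calc (a.1 : G) * z * (a.1 : G)⁻¹ = a.1 * ((a.2 : G) * z * (a.2 : G)⁻¹) * (a.1 : G)⁻¹ := by rw [hc]
        _ = ((a.1 : G) * a.2) * z * ((a.1 : G) * a.2)⁻¹ := by group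
        _ = ((b.1 : G) * b.2) * z * ((b.1 : G) * b.2)⁻¹ := by rw [e']
        _ = b.1 * ((b.2 : G) * z * (b.2 : G)⁻¹) * (b.1 : G)⁻¹ := by group
        _ = (b.1 : G) * z * (b.1 : G)⁻¹ := by rw [hc]
    rw [h1] at e'
    exact Prod.ext (Subtype.ext h1) (Subtype.ext (mul_left_cancel e'))
  · obtain ⟨k, hk, e⟩ := S.exists_rep h.2
    refine ⟨⟨⟨k, hk⟩, ⟨k⁻¹ * h, mem_centralizer_singleton_iff.2 ?_⟩⟩,
      Subtype.ext (mul_inv_cancel_left k h)⟩
    calc k⁻¹ * (h : G) * z = k⁻¹ * ((h : G) * z * (h : G)⁻¹) * h := by group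
      _ = k⁻¹ * (k * z * k⁻¹) * h := by rw [e]
      _ = z * (k⁻¹ * h) := by group

/-- There are `|K|` involutions at each point. -/
theorem card_class : Nat.card {y : G // IsConj z y} = H.index * Nat.card K := by
  have h1 : Nat.card {y : G // IsConj z y} * Nat.card (centralizer ({z} : Set G)) = Nat.card G :=
    InvChar68.card_isConj_mul_card_centralizer z
  rw [← Subgroup.index_mul_card H, S.card_H, ← mul_assoc] at h1
  exact Nat.eq_of_mul_eq_mul_right Nat.card_pos h1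

/-- `|H|` counts the other points. -/
theorem card_H_eq : Nat.card H = (H.index - 1) * (Nat.card K * Nat.card B) := by
  classical
  let b₀ : G ⧸ H := QuotientGroup.mk u
  have hne : b₀ ≠ QuotientGroup.mk 1 := fun e => S.u_out (by
    have := QuotientGroup.eq.1 e
    simpa using this)
  have horb : orbit H b₀ = {c : G ⧸ H | c ≠ QuotientGroup.mk 1} := by
    ext c
    induction c using QuotientGroup.induction_on with
    | _ g =>
    constructor
    · rintro ⟨h, hh⟩ e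
      rw [e] at hh
      have h' : ((h : G) * u)⁻¹ * 1 ∈ H := QuotientGroup.eq.1 hh
      refine S.u_out ?_
      have h2 := inv_mem h'
      rw [mul_one, inv_inv, mul_mem_cancel_left h.2] at h2
      exact h2
    · intro hc
      have hg : g ∉ H := fun hg => hc (QuotientGroup.eq.2 (by simpa using hg))
      obtain ⟨h, hh, hmem⟩ := S.trans u g S.u_out hg
      refine ⟨⟨h, hh⟩, QuotientGroup.eq.2 ?_⟩
      have := inv_mem hmem
      simpa [mul_assoc] using this
  have hstab : Nat.card (stabilizer H b₀) = Nat.card K * Nat.card B := by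
    rw [← Nat.card_prod]
    have hin : ∀ q : K × B, (⟨q.1 * q.2, mul_mem (S.K_le q.1.2) (S.B_le q.2.2)⟩ : H) ∈
        stabilizer H b₀ := fun q => by
      rw [mem_stabilizer_iff]
      refine QuotientGroup.eq.2 ?_
      have h1 : u * ((q.1 : G) * q.2) * u⁻¹ = (q.1 : G)⁻¹ * q.2 := by
        rw [show u * ((q.1 : G) * q.2) * u⁻¹ = (u * q.1 * u⁻¹) * (u * q.2 * u⁻¹) by group,
          S.inverts _ q.1.2, S.conj_u_B q.2.2]
      have := inv_mem (mul_mem (inv_mem (S.K_le q.1.2)) (S.B_le q.2.2))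
      rw [← h1] at this
      simpa [mul_assoc, S.u_inv] using this
    refine (Nat.card_eq_of_bijective (fun q => (⟨_, hin q⟩ : stabilizer H b₀))
      ⟨fun a b e => ?_, fun h => ?_⟩).symm
    · obtain ⟨h1, h2⟩ := S.mul_unique a.1.2 b.1.2 a.2.2 b.2.2
        (congrArg (fun x : stabilizer H b₀ => ((x : H) : G)) e)
      exact Prod.ext (Subtype.ext h1) (Subtype.ext h2)
    · have h1 : ((h : H) : G)⁻¹ = ((h : H) : G)⁻¹ := rfl
      have h2 : (((h : H) : G) * u)⁻¹ * u ∈ H := QuotientGroup.eq.1 h.2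
      obtain ⟨k, hk, b, hb, e⟩ := S.stab _ (h : H).2 (by
        have := inv_mem h2
        simpa [mul_assoc, S.u_inv] using this)
      exact ⟨⟨⟨k, hk⟩, ⟨b, hb⟩⟩, Subtype.ext (Subtype.ext e.symm)⟩
  have h1 := Subgroup.index_mul_card (stabilizer H b₀)
  rw [hstab, index_stabilizer, horb] at h1
  rw [← h1]
  congr 1
  rw [show {c : G ⧸ H | c ≠ QuotientGroup.mk 1} = Set.univ \ {QuotientGroup.mk 1} by ext; simp,
    Set.ncard_sdiff (Set.subset_univ _), Set.ncard_univ, Set.ncard_singleton]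
  rfl

end Setup

end Cfsg.Agent.Bender42
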