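import Cfsg.Agent.Bender42.Basic
import Cfsg.Agent.Bender20.RankThreeChar
import Cfsg.Agent.Lib.CharInd.Char

/-!
The character of `H` on its involutions, less the principal one, and the character it induces.
-/

set_option autoImplicit false
set_option linter.unusedSectionVars false

namespace Cfsg.Agent.Bender42

open scoped ComplexConjugate Classical
open MulAction

noncomputable section

universe w

variable {G : Type w} [Group G]

/-- The involutions of a subgroup. -/
abbrev Inv (H : Subgroup G) : Type w := {v : G // v ∈ H ∧ orderOf v = 2}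

instance actInv (H : Subgroup G) : MulAction H (Inv H) where
  smul h v := ⟨(h : G) * v.1 * (h : G)⁻¹, mul_mem (mul_mem h.2 v.2.1) (inv_mem h.2),
    (TwoFusionB.orderOf_conj_eq _ _).trans v.2.2⟩
  one_smul v := Subtype.ext (show ((1 : H) : G) * v.1 * ((1 : H) : G)⁻¹ = v.1 by simp)
  mul_smul a b v := Subtype.ext (show ((a * b : H) : G) * v.1 * ((a * b : H) : G)⁻¹ =
    (a : G) * ((b : G) * v.1 * (b : G)⁻¹) * (a : G)⁻¹ by simp [mul_assoc])

theorem smul_inv_coe {H : Subgroup G} (h : H) (v : Inv H) :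
    ((h • v : Inv H) : G) = (h : G) * v.1 * (h : G)⁻¹ := rfl

variable [Fintype G]

/-- The permutation character on the involutions, less the principal character. -/
def chi (H : Subgroup G) : H → ℂ := fun h => PermB.permChar H (Inv H) h - 1

/-- The induced character. -/
def Phi (H : Subgroup G) : G → ℂ := Cfsg.indFun H (chi H)

variable {H K B : Subgroup G} {u z : G}

theorem conj_chi (h : H) : conj (chi H h) = chi H h := by
  simp [chi, PermB.permChar]

theorem chi_classFun : Cfsg.IsClassFunction H (chi H) := fun g h => by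
  simp only [chi]
  rw [(CharCore.IsCharacter.isClassFunction (PermB.isCharacter_permChar H (Inv H))) g h]

theorem ext_conj {c y : G} (hc : c ∈ H) :
    Cfsg.extendByZero H (chi H) (c⁻¹ * y * c) = Cfsg.extendByZero H (chi H) y := by
  by_cases hy : y ∈ H
  · rw [CharInd.extendByZero_mem _ hy, CharInd.extendByZero_mem _ (mul_mem (mul_mem (inv_mem hc) hy) hc),
      ← chi_classFun ⟨y, hy⟩ ⟨c⁻¹, inv_mem hc⟩]
    congr 1
    exact Subtype.ext (by simp)
  · rw [CharInd.extendByZero_notMem _ hy, CharInd.extendByZero_notMem _ fun h => hy ?_]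
    have := mul_mem (mul_mem hc h) (inv_mem hc)
    simpa [mul_assoc] using this

theorem conj_Phi (g : G) : conj (Phi H g) = Phi H g := by
  simp only [Phi, CharInd.indFun_apply, map_mul, map_sum, map_inv₀, map_natCast]
  congr 1
  refine Finset.sum_congr rfl fun x _ => ?_
  by_cases hx : x⁻¹ * g * x ∈ H
  · rw [CharInd.extendByZero_mem _ hx, conj_chi]
  · rw [CharInd.extendByZero_notMem _ hx, map_zero]

namespace Setup

variable (S : Setup H K B u z)
include S

/-- The point of the involution `z`. -/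
def pt (k : K) : Inv H :=
  ⟨(k : G) * z * (k : G)⁻¹, mul_mem (mul_mem (S.K_le k.2) S.z_mem) (inv_mem (S.K_le k.2)),
    (TwoFusionB.orderOf_conj_eq _ _).trans S.z_ord⟩

theorem pt_coe (k : K) : (S.pt k : G) = (k : G) * z * (k : G)⁻¹ := rfl

theorem pt_bij : Function.Bijective S.pt :=
  ⟨fun a b e => Subtype.ext (S.reg_unique a.2 b.2 (congrArg Subtype.val e)), fun v => by
    obtain ⟨k, hk, e⟩ := S.reg v.1 v.2.1 v.2.2
    exact ⟨⟨k, hk⟩, Subtype.ext e⟩⟩

theorem card_inv : Nat.card (Inv H) = Nat.card K := (Nat.card_eq_of_bijective _ S.pt_bij).symm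

theorem chi_eq_deg {h : H} (hh : ∀ v : Inv H, h • v = v) : chi H h = (Nat.card K : ℂ) - 1 := by
  rw [chi, PermB.permChar, ← S.card_inv]
  congr 2
  exact Nat.card_congr (Equiv.subtypeUnivEquiv fun v => hh v)

theorem chi_one : chi H (1 : H) = (Nat.card K : ℂ) - 1 := S.chi_eq_deg fun v => one_smul _ v

theorem chi_invol_mul {p q : G} (hp : p ∈ H) (hq : q ∈ H) (hpo : orderOf p = 2) (hqo : orderOf q = 2)
    (hpq : p * q ∈ H) : chi H (⟨p * q, hpq⟩ : H) = (Nat.card K : ℂ) - 1 := by
  refine S.chi_eq_deg fun v => Subtype.ext ?_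
  rw [smul_inv_coe]
  have h1 := S.comm p hp v.1 v.2.1 hpo v.2.2
  have h2 := S.comm q hq v.1 v.2.1 hqo v.2.2
  rw [(h1.mul_left h2).eq, mul_inv_cancel_right]

theorem chi_z : chi H (⟨z, S.z_mem⟩ : H) = (Nat.card K : ℂ) - 1 := by
  refine S.chi_eq_deg fun v => Subtype.ext ?_
  rw [smul_inv_coe, (S.comm z S.z_mem v.1 v.2.1 S.z_ord v.2.2).eq, mul_inv_cancel_right]

/-- The fixed involutions of an element of the two-point stabiliser. -/
theorem card_fixed {k b : G} (hk : k ∈ K) (hb : b ∈ B) (hkb : k * b ∈ H) :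
    Nat.card (fixedBy (Inv H) (⟨k * b, hkb⟩ : H)) =
      Nat.card {l : K // k * (b * l * b⁻¹) = (l : G)} := by
  symm
  have key : ∀ l : K, k * b * (S.pt l : G) * (k * b)⁻¹ =
      (k * (b * l * b⁻¹)) * z * (k * (b * l * b⁻¹))⁻¹ := fun l => by
    rw [S.pt_coe, show k * b * ((l : G) * z * (l : G)⁻¹) * (k * b)⁻¹ =
      k * (b * ((l : G) * z * (l : G)⁻¹) * b⁻¹) * k⁻¹ by group, S.B_act hb]
    group
  refine Nat.card_eq_of_bijective (fun l => ⟨S.pt l.1, Subtype.ext ?_⟩) ⟨?_, ?_⟩
  · show ((⟨k * b, hkb⟩ : H) : G) * (S.pt l.1 : G) * ((⟨k * b, hkb⟩ : H) : G)⁻¹ = (S.pt l.1 : G)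
    rw [key, l.2]
    rfl
  · exact fun a b e => Subtype.ext (S.pt_bij.1 (congrArg Subtype.val e))
  · rintro ⟨v, hv⟩
    obtain ⟨l, rfl⟩ := S.pt_bij.2 v
    refine ⟨⟨l, S.reg_unique (mul_mem hk (S.B_norm b hb l l.2)) l.2 ?_⟩, rfl⟩
    rw [← key]
    exact congrArg Subtype.val hv

theorem chi_K {k : G} (hk : k ∈ K) (h1 : k ≠ 1) : chi H (⟨k, S.K_le hk⟩ : H) = -1 := by
  have hm : k * 1 ∈ H := by rw [mul_one]; exact S.K_le hk
  have e : (⟨k, S.K_le hk⟩ : H) = ⟨k * 1, hm⟩ := Subtype.ext (mul_one k).symm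
  have h0 : IsEmpty {l : K // k * (1 * (l : G) * 1⁻¹) = (l : G)} :=
    ⟨fun l => h1 (by simpa using l.2)⟩
  rw [e, chi, PermB.permChar, S.card_fixed hk (one_mem B) hm, Nat.card_of_isEmpty]
  simp

theorem chi_kb {k b : G} (hk : k ∈ K) (hb : b ∈ B) (hb1 : b ≠ 1) (hkb : k * b ∈ H) :
    chi H (⟨k * b, hkb⟩ : H) = 0 := by
  let f : K → K := fun l => ⟨(l : G) * (b * l * b⁻¹)⁻¹, mul_mem l.2 (inv_mem (S.B_norm b hb l l.2))⟩
  have hinj : Function.Injective f := by
    intro l m e
    have e' : (l : G) * (b * l * b⁻¹)⁻¹ = m * (b * m * b⁻¹)⁻¹ := congrArg Subtype.val e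
    have h1 : (m : G)⁻¹ * l = b * ((m : G)⁻¹ * l) * b⁻¹ :=
      calc (m : G)⁻¹ * l = (m : G)⁻¹ * ((l : G) * (b * l * b⁻¹)⁻¹) * (b * l * b⁻¹) := by group
        _ = (m : G)⁻¹ * ((m : G) * (b * m * b⁻¹)⁻¹) * (b * l * b⁻¹) := by rw [e']
        _ = b * ((m : G)⁻¹ * l) * b⁻¹ := by group
    by_contra hne
    refine hb1 (S.B_fpf hb (mul_mem (inv_mem m.2) l.2) (fun h => hne ?_) h1.symm)
    exact (Subtype.ext (inv_mul_eq_one.1 h)).symm
  have hbij := (Finite.injective_iff_bijective).1 hinj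
  obtain ⟨l, hl⟩ := hbij.2 ⟨k, hk⟩
  have hkey : ∀ m : K, k * (b * m * b⁻¹) = (m : G) ↔ f m = ⟨k, hk⟩ := fun m => by
    rw [Subtype.ext_iff]
    exact ⟨fun h => eq_comm.1 (eq_mul_inv_iff_mul_eq.2 h), fun h => eq_mul_inv_iff_mul_eq.1 h.symm⟩
  have h0 : Nat.card {m : K // k * (b * m * b⁻¹) = (m : G)} = 1 :=
    Nat.card_eq_one_iff_exists.2 ⟨⟨l, (hkey l).2 hl⟩, fun m =>
      Subtype.ext (hbij.1 (((hkey m.1).1 m.2).trans hl.symm))⟩
  rw [chi, PermB.permChar, S.card_fixed hk hb hkb, h0]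
  simp

theorem sum_chi_K : ∑ k : K, chi H (⟨k, S.K_le k.2⟩ : H) = 0 := by
  rw [← Finset.add_sum_erase _ _ (Finset.mem_univ (1 : K)),
    Finset.sum_congr rfl (g := fun _ => (-1 : ℂ)) (fun (k : K) hk => S.chi_K k.2
      (fun e => (Finset.mem_erase.1 hk).1 (Subtype.ext e)))]
  rw [show (⟨((1 : K) : G), S.K_le (1 : K).2⟩ : H) = 1 from rfl, S.chi_one, Finset.sum_const,
    Finset.card_erase_of_mem (Finset.mem_univ _), Finset.card_univ, nsmul_eq_mul,
    Nat.cast_sub Fintype.card_pos, Nat.card_eq_fintype_card]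
  push_cast
  ring

theorem isCharacter_chi : Cfsg.IsCharacter H (chi H) := by
  have hπ := PermB.isCharacter_permChar H (Inv H)
  have htr : ∀ a b : Inv H, ∃ g : H, g • a = b := fun a b => by
    obtain ⟨k, rfl⟩ := S.pt_bij.2 a
    obtain ⟨l, rfl⟩ := S.pt_bij.2 b
    refine ⟨⟨(l : G) * (k : G)⁻¹, mul_mem (S.K_le l.2) (inv_mem (S.K_le k.2))⟩, Subtype.ext ?_⟩
    simp [smul_inv_coe, S.pt_coe, mul_assoc]
  have : Nonempty (Inv H) := ⟨S.pt 1⟩
  have h1 : Cfsg.classInner (PermB.permChar H (Inv H)) (1 : H → ℂ) = 1 := by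
    rw [Bender20.classInner_permChar_one, Bender20.card_orbits_one H _ htr, Nat.cast_one]
  choose m hm using fun ψ : Cfsg.IrrCharacter H =>
    CharCore.IsCharacter.exists_classInner_irr_eq_natCast hπ ψ
  let one : Cfsg.IrrCharacter H := ⟨1, CharCore.isIrrCharacter_one⟩
  have hone : m one = 1 := by
    have h := hm one
    rw [show ((one : Cfsg.IrrCharacter H) : H → ℂ) = 1 from rfl, h1] at h
    exact_mod_cast h.symm
  have e : chi H = ∑ ψ : Cfsg.IrrCharacter H,
      ((if ψ = one then 0 else m ψ : ℕ) : ℂ) • (ψ : H → ℂ) := by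
    funext h
    have hexp := congrFun (CharCore.IsCharacter.eq_sum_classInner hπ) h
    simp only [Finset.sum_apply, Pi.smul_apply, smul_eq_mul, hm] at hexp
    simp only [chi, Finset.sum_apply, Pi.smul_apply, smul_eq_mul, hexp]
    rw [← Finset.add_sum_erase _ _ (Finset.mem_univ one), ← Finset.add_sum_erase _ _ (Finset.mem_univ one),
      if_pos rfl, hone, Nat.cast_one, Nat.cast_zero, zero_mul, zero_add, one_mul,
      show ((one : Cfsg.IrrCharacter H) : H → ℂ) h = 1 from rfl, add_sub_cancel_left]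
    exact Finset.sum_congr rfl fun ψ hψ => by rw [if_neg (Finset.mem_erase.1 hψ).1]
  rw [e]
  exact CharCore.isCharacter_sum_irr _

theorem isCharacter_Phi : Cfsg.IsCharacter G (Phi H) :=
  CharInd.isCharacter_indFun H S.isCharacter_chi

theorem Phi_one : Phi H 1 = (H.index : ℂ) * ((Nat.card K : ℂ) - 1) := by
  rw [Phi, CharInd.indFun_apply_one, S.chi_one]

theorem Phi_z : Phi H z = (Nat.card K : ℂ) - 1 := by
  have hterm : ∀ x : G, Cfsg.extendByZero H (chi H) (x⁻¹ * z * x) =
      if x ∈ H then (Nat.card K : ℂ) - 1 else 0 := fun x => by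
    by_cases hx : x ∈ H
    · rw [if_pos hx, ext_conj hx, CharInd.extendByZero_mem _ S.z_mem, S.chi_z]
    · rw [if_neg hx, CharInd.extendByZero_notMem _ fun h => hx ?_]
      exact inv_mem_iff.1 (S.conj_mem_iff.1 (by rwa [inv_inv]))
  rw [Phi, CharInd.indFun_apply, Finset.sum_congr rfl fun x _ => hterm x, ← Finset.sum_filter,
    Finset.sum_const, nsmul_eq_mul, ← mul_assoc,
    show (Finset.univ.filter fun x : G => x ∈ H).card = Nat.card H by
      rw [← Nat.card_eq_finsetCard]; exact Nat.card_congr (Equiv.subtypeEquivRight fun x => by simp),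
    inv_mul_cancel₀ (Nat.cast_ne_zero.2 Nat.card_pos.ne'), one_mul]

theorem Phi_K {k : G} (hk : k ∈ K) (h1 : k ≠ 1) : Phi H k = -2 := by
  have hneg : Cfsg.extendByZero H (chi H) k = -1 := by
    rw [CharInd.extendByZero_mem _ (S.K_le hk), S.chi_K hk h1]
  have hneg' : Cfsg.extendByZero H (chi H) (u * k * u⁻¹) = -1 := by
    rw [S.inverts k hk, CharInd.extendByZero_mem _ (S.K_le (inv_mem hk)),
      S.chi_K (inv_mem hk) (by simpa using h1)]
  have hterm : ∀ x : G, Cfsg.extendByZero H (chi H) (x⁻¹ * k * x) =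
      (if x ∈ H then (-1 : ℂ) else 0) + (if u * x ∈ H then (-1 : ℂ) else 0) := fun x => by
    by_cases hx : x ∈ H
    · rw [if_pos hx, if_neg (fun h => S.u_out ((mul_mem_cancel_right hx).1 h)), ext_conj hx, hneg,
        add_zero]
    by_cases hx' : u * x ∈ H
    · rw [if_neg hx, if_pos hx', show x⁻¹ * k * x = (u * x)⁻¹ * (u * k * u⁻¹) * (u * x) by group,
        ext_conj hx', hneg', zero_add]
    · rw [if_neg hx, if_neg hx', CharInd.extendByZero_notMem _ fun h =>
        (S.two_fix k hk h1 x h).elim hx hx', add_zero]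
  have hc1 : (Finset.univ.filter fun x : G => x ∈ H).card = Nat.card H := by
    rw [← Nat.card_eq_finsetCard]; exact Nat.card_congr (Equiv.subtypeEquivRight fun x => by simp)
  have hc2 : (Finset.univ.filter fun x : G => u * x ∈ H).card = Nat.card H := by
    rw [← Nat.card_eq_finsetCard]
    exact Nat.card_congr ((Equiv.mulLeft u).subtypeEquiv fun x => by simp)
  rw [Phi, CharInd.indFun_apply, Finset.sum_congr rfl fun x _ => hterm x, Finset.sum_add_distrib,
    ← Finset.sum_filter, ← Finset.sum_filter, Finset.sum_const, Finset.sum_const, hc1, hc2,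
    nsmul_eq_mul]
  field_simp
  ring

/-- The inner product across the two-point stabiliser. -/
theorem sum_stab :
    ∑ h : H, chi H h * Cfsg.extendByZero H (chi H) (u⁻¹ * h * u) =
      ((Nat.card K : ℂ) - 1) * Nat.card K := by
  have hin : ∀ q : K × B, (q.1 : G) * q.2 ∈ H := fun q => mul_mem (S.K_le q.1.2) (S.B_le q.2.2)
  have hval : ∀ q : K × B, u⁻¹ * ((q.1 : G) * q.2) * u = (q.1 : G)⁻¹ * q.2 := fun q => by
    have h1 := S.inverts _ q.1.2
    have h2 := S.conj_u_B q.2.2
    rw [S.u_inv] at h1 h2 ⊢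
    rw [show u * ((q.1 : G) * q.2) * u = (u * q.1 * u) * (u⁻¹ * q.2 * u) by group, h1, S.u_inv, h2]
  have hinj : Set.InjOn (fun q : K × B => (⟨_, hin q⟩ : H)) (Finset.univ : Finset (K × B)) := by
    intro a _ b _ e
    obtain ⟨h1, h2⟩ := S.mul_unique a.1.2 b.1.2 a.2.2 b.2.2 (congrArg Subtype.val e)
    exact Prod.ext (Subtype.ext h1) (Subtype.ext h2)
  rw [← Finset.sum_subset (Finset.subset_univ
    ((Finset.univ : Finset (K × B)).image fun q => (⟨_, hin q⟩ : H))), Finset.sum_image hinj,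
    Fintype.sum_prod_type]
  · have hterm : ∀ k : K, ∑ b : B, chi H ⟨(k : G) * b, hin (k, b)⟩ *
        Cfsg.extendByZero H (chi H) (u⁻¹ * ((k : G) * b) * u) =
        if k = 1 then ((Nat.card K : ℂ) - 1) ^ 2 else 1 := by
      intro k
      rw [← Finset.add_sum_erase _ _ (Finset.mem_univ (1 : B)), Finset.sum_eq_zero (fun b hb => ?_),
        add_zero, hval (k, 1)]
      · have e1 : (⟨(k : G) * ((1 : B) : G), hin (k, 1)⟩ : H) = ⟨k, S.K_le k.2⟩ :=
          Subtype.ext (by simp)
        rw [e1, show (k : G)⁻¹ * ((1 : B) : G) = (k : G)⁻¹ by simp,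
          CharInd.extendByZero_mem _ (S.K_le (inv_mem k.2))]
        split_ifs with hk
        · subst hk
          rw [show (⟨((1 : K) : G), S.K_le (1 : K).2⟩ : H) = 1 from rfl,
            show (⟨((1 : K) : G)⁻¹, S.K_le (inv_mem (1 : K).2)⟩ : H) = 1 from Subtype.ext inv_one,
            S.chi_one, sq]
        · have hk' : (k : G) ≠ 1 := fun e => hk (Subtype.ext e)
          rw [S.chi_K k.2 hk', S.chi_K (inv_mem k.2) (inv_ne_one.2 hk')]
          norm_num
      · rw [S.chi_kb k.2 b.2 (fun e => (Finset.mem_erase.1 hb).1 (Subtype.ext e)) (hin (k, b)),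
          zero_mul]
    rw [Finset.sum_congr rfl fun k _ => hterm k,
      ← Finset.add_sum_erase _ _ (Finset.mem_univ (1 : K)), if_pos rfl,
      Finset.sum_congr rfl (g := fun _ => (1 : ℂ)) (fun k hk => if_neg (Finset.mem_erase.1 hk).1),
      Finset.sum_const, Finset.card_erase_of_mem (Finset.mem_univ _), Finset.card_univ,
      nsmul_eq_mul, Nat.cast_sub Fintype.card_pos, Nat.card_eq_fintype_card]
    push_cast
    ring
  · intro h _ hh
    rw [CharInd.extendByZero_notMem _ fun hm => hh ?_, mul_zero]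
    obtain ⟨k, hk, b, hb, e⟩ := S.stab h h.2 (by rw [S.u_inv] at hm ⊢; exact hm)
    exact Finset.mem_image.2 ⟨(⟨k, hk⟩, ⟨b, hb⟩), Finset.mem_univ _, Subtype.ext e.symm⟩

theorem norm_Phi :
    Cfsg.classInner (Phi H) (Phi H) =
      Cfsg.classInner (chi H) (chi H) + ((Nat.card K : ℂ) - 1) / Nat.card B := by
  have hH0 : (Nat.card H : ℂ) ≠ 0 := Nat.cast_ne_zero.2 Nat.card_pos.ne'
  have hK0 : (Nat.card K : ℂ) ≠ 0 := Nat.cast_ne_zero.2 Nat.card_pos.ne'
  have hB0 : (Nat.card B : ℂ) ≠ 0 := Nat.cast_ne_zero.2 Nat.card_pos.ne'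
  have hF : ∀ x : G, x ∉ H → ∑ h : H, chi H h * Cfsg.extendByZero H (chi H) (x⁻¹ * h * x) =
      ((Nat.card K : ℂ) - 1) * Nat.card K := by
    intro x hx
    obtain ⟨a, ha, c, hc, rfl⟩ := S.out_coset hx
    rw [← S.sum_stab]
    refine Fintype.sum_equiv (MulAut.conj (⟨a, ha⟩ : H)⁻¹).toEquiv _ _ fun h => ?_
    congr 1
    · exact (chi_classFun h (⟨a, ha⟩ : H)⁻¹).symm
    · rw [← ext_conj (c := c⁻¹) (inv_mem hc)]
      congr 1
      simp [mul_assoc]
  have hcard : ((Finset.univ.filter fun x : G => x ∉ H).card : ℂ) =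
      ((H.index : ℂ) - 1) * Nat.card H := by
    have h := Finset.card_filter_add_card_filter_not (s := (Finset.univ : Finset G)) fun x : G => x ∈ H
    have hc1 : (Finset.univ.filter fun x : G => x ∈ H).card = Nat.card H := by
      rw [← Nat.card_eq_finsetCard]; exact Nat.card_congr (Equiv.subtypeEquivRight fun x => by simp)
    rw [hc1, Finset.card_univ, ← Nat.card_eq_fintype_card (α := G), ← Subgroup.index_mul_card H] at h
    have h' : (Nat.card H : ℂ) + ((Finset.univ.filter fun x : G => x ∉ H).card : ℂ) =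
        (H.index : ℂ) * Nat.card H := by exact_mod_cast h
    linear_combination h'
  have hn : (H.index : ℂ) - 1 ≠ 0 := by
    rw [sub_ne_zero]
    exact_mod_cast fun h => S.se.1 (Subgroup.index_eq_one.1 h)
  have hHc : (Nat.card H : ℂ) = ((H.index : ℂ) - 1) * ((Nat.card K : ℂ) * Nat.card B) := by
    rw [← Nat.cast_one, ← Nat.cast_sub (Nat.one_le_iff_ne_zero.2 Subgroup.index_ne_zero_of_finite)]
    exact_mod_cast S.card_H_eq
  have hexp : Cfsg.classInner (Phi H) (Phi H) = (Nat.card H : ℂ)⁻¹ * ∑ h : H, chi H h *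
      ((Nat.card H : ℂ)⁻¹ * ∑ x : G, Cfsg.extendByZero H (chi H) (x⁻¹ * h * x)) := by
    conv_lhs => rw [Phi]
    rw [CharInd.classInner_indFun_left H (chi H) (CharInd.isClassFunction_indFun H (chi H)),
      Cfsg.classInner]
    congr 1
    refine Finset.sum_congr rfl fun h _ => ?_
    rw [show Cfsg.indFun H (chi H) = Phi H from rfl, conj_Phi, Phi, CharInd.indFun_apply]
  have h1 : ∀ h : H, ∑ x ∈ Finset.univ.filter (fun x : G => x ∈ H),
      Cfsg.extendByZero H (chi H) (x⁻¹ * h * x) = (Nat.card H : ℂ) * chi H h := fun h => by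
    rw [Finset.sum_congr rfl (g := fun _ => chi H h) (fun x hx => by
      rw [ext_conj (Finset.mem_filter.1 hx).2, CharInd.extendByZero_mem _ h.2]),
      Finset.sum_const, nsmul_eq_mul]
    congr 2
    rw [← Nat.card_eq_finsetCard]; exact Nat.card_congr (Equiv.subtypeEquivRight fun x => by simp)
  have hsplit : ∀ h : H, ∑ x : G, Cfsg.extendByZero H (chi H) (x⁻¹ * h * x) =
      (Nat.card H : ℂ) * chi H h + ∑ x ∈ Finset.univ.filter (fun x : G => x ∉ H),
        Cfsg.extendByZero H (chi H) (x⁻¹ * h * x) := fun h => by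
    rw [← h1 h, Finset.sum_filter_add_sum_filter_not]
  have h2 : ∑ h : H, chi H h * ∑ x ∈ Finset.univ.filter (fun x : G => x ∉ H),
      Cfsg.extendByZero H (chi H) (x⁻¹ * h * x) =
      ((H.index : ℂ) - 1) * Nat.card H * (((Nat.card K : ℂ) - 1) * Nat.card K) := by
    simp only [Finset.mul_sum]
    rw [Finset.sum_comm, Finset.sum_congr rfl fun x hx => hF x (Finset.mem_filter.1 hx).2,
      Finset.sum_const, nsmul_eq_mul, hcard]
  have h3 : Cfsg.classInner (chi H) (chi H) = (Nat.card H : ℂ)⁻¹ * ∑ h : H, chi H h * chi H h := by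
    rw [Cfsg.classInner]
    simp only [conj_chi]
  rw [hexp]
  simp only [hsplit, mul_add, Finset.sum_add_distrib]
  rw [h3]
  congr 1
  · congr 1
    exact Finset.sum_congr rfl fun h _ => by rw [inv_mul_cancel_left₀ hH0]
  · rw [Finset.sum_congr rfl (g := fun h : H => (Nat.card H : ℂ)⁻¹ * (chi H h *
      ∑ x ∈ Finset.univ.filter (fun x : G => x ∉ H), Cfsg.extendByZero H (chi H) (x⁻¹ * h * x)))
      (fun h _ => by ring), ← Finset.mul_sum, h2, hHc]
    field_simp

/-- The equation of the pairs of involutions with product in `H`. -/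
theorem class_equation :
    ∑ Y : Cfsg.IrrCharacter G, Cfsg.classInner (Phi H) (Y : G → ℂ) *
      ((Y : G → ℂ) z ^ 2 / (Y : G → ℂ) 1) = ((Nat.card K : ℂ) - 1) / H.index := by
  have hH0 : (Nat.card H : ℂ) ≠ 0 := Nat.cast_ne_zero.2 Nat.card_pos.ne'
  have hK0 : (Nat.card K : ℂ) ≠ 0 := Nat.cast_ne_zero.2 Nat.card_pos.ne'
  have hn0 : (H.index : ℂ) ≠ 0 := Nat.cast_ne_zero.2 Subgroup.index_ne_zero_of_finite
  have hiff : ∀ q : G, IsConj z q ↔ orderOf q = 2 := fun q => by
    refine ⟨fun h => ?_, fun h => TwoFusionB.isConj_involutions S.se S.z_ord h⟩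
    obtain ⟨c, rfl⟩ := isConj_iff.1 h
    rw [TwoFusionB.orderOf_conj_eq, S.z_ord]
  let P : G → ℂ := fun g => (Nat.card {p : G × G // IsConj z p.1 ∧ IsConj z p.2 ∧ p.1 * p.2 = g} : ℂ)
  have hP : ∀ g : G, ∑ Y : Cfsg.IrrCharacter G,
      (Y : G → ℂ) z ^ 2 * conj ((Y : G → ℂ) g) / (Y : G → ℂ) 1 =
      P g * Nat.card G / ((H.index : ℂ) * Nat.card K) ^ 2 := fun g => by
    have key := InvChar68.card_pairs_mul_card z g
    rw [S.card_class] at key
    rw [eq_div_iff (pow_ne_zero 2 (mul_ne_zero hn0 hK0))]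
    push_cast at key
    rw [show P g * (Nat.card G : ℂ) = _ from key, mul_comm]
  let c : ℂ := (Nat.card K : ℂ) - 1
  have hrow : ∀ p : G, ∑ q : G, (if orderOf p = 2 ∧ orderOf q = 2 then
      Cfsg.extendByZero H (chi H) (p * q) else 0) =
      if orderOf p = 2 ∧ p ∈ H then (Nat.card K : ℂ) * c else 0 := by
    intro p
    by_cases hp : orderOf p = 2
    swap
    · simp [hp]
    by_cases hpH : p ∈ H
    · rw [if_pos ⟨hp, hpH⟩, Finset.sum_congr rfl (g := fun q : G =>
        if q ∈ H ∧ orderOf q = 2 then c else 0) (fun q _ => ?_), ← Finset.sum_filter,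
        Finset.sum_const, nsmul_eq_mul]
      · congr 2
        rw [← S.card_inv, ← Nat.card_eq_finsetCard]
        exact Nat.card_congr (Equiv.subtypeEquivRight fun x => by simp)
      · by_cases hq : orderOf q = 2
        · rw [if_pos ⟨hp, hq⟩]
          by_cases hqH : q ∈ H
          · rw [if_pos ⟨hqH, hq⟩, CharInd.extendByZero_mem _ (mul_mem hpH hqH),
              S.chi_invol_mul hpH hqH hp hq]
          · rw [if_neg (fun h => hqH h.1), CharInd.extendByZero_notMem _
              fun h => hqH ((mul_mem_cancel_left hpH).1 h)]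
        · rw [if_neg (fun h => hq h.2), if_neg (fun h => hq h.2)]
    · rw [if_neg (fun h => hpH h.2)]
      obtain ⟨h, hh, k, hk, rfl⟩ := S.out_form hp hpH
      let f : K → G := fun l => h * (u * ((k * l : G))) * h⁻¹
      have hf : Function.Injective f := fun a b e => by
        have e1 : h * (u * ((k : G) * a)) * h⁻¹ = h * (u * (k * b)) * h⁻¹ := e
        exact Subtype.ext (mul_left_cancel (mul_left_cancel (mul_left_cancel (mul_right_cancel e1))))
      have hmul : ∀ l : K, h * (u * k) * h⁻¹ * f l = h * l * h⁻¹ := fun l => by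
        have h1 := S.inverts k hk
        rw [S.u_inv] at h1
        calc h * (u * k) * h⁻¹ * f l = h * ((u * k * u) * (k * l)) * h⁻¹ := by
              simp only [f]; group
          _ = h * l * h⁻¹ := by rw [h1, inv_mul_cancel_left]
      rw [← Finset.sum_subset (Finset.subset_univ (Finset.univ.image f)), Finset.sum_image hf.injOn]
      · rw [← S.sum_chi_K]
        refine Finset.sum_congr rfl fun l _ => ?_
        rw [if_pos ⟨hp, (TwoFusionB.orderOf_conj_eq _ _).trans (S.uK_inv (mul_mem hk l.2))⟩, hmul,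
          show h * (l : G) * h⁻¹ = (h⁻¹)⁻¹ * l * h⁻¹ by rw [inv_inv], ext_conj (inv_mem hh),
          CharInd.extendByZero_mem _ (S.K_le l.2)]
      · intro q _ hq
        by_cases hqo : orderOf q = 2
        swap
        · rw [if_neg fun h => hqo h.2]
        rw [if_pos ⟨hp, hqo⟩, CharInd.extendByZero_notMem _ fun hm => hq ?_]
        obtain ⟨l, hl, e⟩ := S.swap (p := h⁻¹ * q * h)
          (by simpa using (TwoFusionB.orderOf_conj_eq h⁻¹ q).trans hqo) (by
            have h2 : u * k * (h⁻¹ * q * h) ∈ H := by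
              have := mul_mem (mul_mem (inv_mem hh) hm) hh
              simpa [mul_assoc] using this
            have hq2 : (h⁻¹ * q * h)⁻¹ = h⁻¹ * q * h := TwoFusionB.inv_eq_of_inv
              (by simpa using (TwoFusionB.orderOf_conj_eq h⁻¹ q).trans hqo)
            have h4 := inv_mem h2
            rw [mul_inv_rev (u * k) (h⁻¹ * q * h), hq2, TwoFusionB.inv_eq_of_inv (S.uK_inv hk)] at h4
            have h7 := mul_mem h4 (S.K_le (inv_mem hk))
            simpa [mul_assoc] using h7)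
        refine Finset.mem_image.2 ⟨⟨k⁻¹ * l, mul_mem (inv_mem hk) hl⟩, Finset.mem_univ _, ?_⟩
        show h * (u * (k * (k⁻¹ * l))) * h⁻¹ = q
        rw [mul_inv_cancel_left, ← e]; group
  have hsum : ∑ h : H, chi H h * P h = (Nat.card K : ℂ) ^ 2 * c := by
    have hPe : ∀ g : G, P g = ∑ p : G, ∑ q : G,
        if IsConj z p ∧ IsConj z q ∧ p * q = g then (1 : ℂ) else 0 := fun g => by
      rw [← Fintype.sum_prod_type (f := fun x : G × G =>
        if IsConj z x.1 ∧ IsConj z x.2 ∧ x.1 * x.2 = g then (1 : ℂ) else 0), Finset.sum_boole,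
        ← Nat.card_eq_finsetCard]
      simp only [P]
      exact congrArg Nat.cast (Nat.card_congr (Equiv.subtypeEquivRight fun x => by simp))
    calc ∑ h : H, chi H h * P h
        = ∑ p : G, ∑ q : G, ∑ h : H,
            chi H h * (if IsConj z p ∧ IsConj z q ∧ p * q = (h : G) then (1 : ℂ) else 0) := by
          simp only [hPe, Finset.mul_sum]
          rw [Finset.sum_comm]
          exact Finset.sum_congr rfl fun p _ => Finset.sum_comm
      _ = ∑ p : G, ∑ q : G, (if orderOf p = 2 ∧ orderOf q = 2 then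
            Cfsg.extendByZero H (chi H) (p * q) else 0) := by
          refine Finset.sum_congr rfl fun p _ => Finset.sum_congr rfl fun q _ => ?_
          by_cases hpq : orderOf p = 2 ∧ orderOf q = 2
          · rw [if_pos hpq]
            by_cases hm : p * q ∈ H
            · rw [Finset.sum_eq_single (⟨p * q, hm⟩ : H), if_pos ⟨(hiff p).2 hpq.1,
                (hiff q).2 hpq.2, rfl⟩, mul_one, CharInd.extendByZero_mem _ hm]
              · intro h _ hne
                rw [if_neg (fun (e : IsConj z p ∧ IsConj z q ∧ p * q = (h : G)) =>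
                  hne (Subtype.ext e.2.2.symm)), mul_zero]
              · exact fun h => absurd (Finset.mem_univ _) h
            · rw [CharInd.extendByZero_notMem _ hm, Finset.sum_eq_zero]
              intro h _
              rw [if_neg (fun (e : IsConj z p ∧ IsConj z q ∧ p * q = (h : G)) => hm (e.2.2 ▸ h.2)), mul_zero]
          · rw [if_neg hpq, Finset.sum_eq_zero]
            intro h _
            rw [if_neg (fun (e : IsConj z p ∧ IsConj z q ∧ p * q = (h : G)) => hpq ⟨(hiff p).1 e.1, (hiff q).1 e.2.1⟩), mul_zero]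
      _ = (Nat.card K : ℂ) ^ 2 * c := by
          rw [Finset.sum_congr rfl fun p _ => hrow p, ← Finset.sum_filter, Finset.sum_const,
            nsmul_eq_mul, sq, mul_assoc]
          congr 2
          rw [← S.card_inv, ← Nat.card_eq_finsetCard]
          exact Nat.card_congr (Equiv.subtypeEquivRight fun x => by simp [and_comm])
  have e : ∀ Y : Cfsg.IrrCharacter G, Cfsg.classInner (Phi H) (Y : G → ℂ) =
      (Nat.card H : ℂ)⁻¹ * ∑ h : H, chi H h * conj ((Y : G → ℂ) (h : G)) := fun Y => by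
    rw [Phi, CharInd.classInner_indFun_left H _ (CharCore.irr_isClassFunction Y), Cfsg.classInner]
  calc ∑ Y : Cfsg.IrrCharacter G, Cfsg.classInner (Phi H) (Y : G → ℂ) *
        ((Y : G → ℂ) z ^ 2 / (Y : G → ℂ) 1)
      = (Nat.card H : ℂ)⁻¹ * ∑ h : H, chi H h * ∑ Y : Cfsg.IrrCharacter G,
          (Y : G → ℂ) z ^ 2 * conj ((Y : G → ℂ) (h : G)) / (Y : G → ℂ) 1 := by
        simp only [e, Finset.mul_sum, Finset.sum_mul]
        rw [Finset.sum_comm]
        exact Finset.sum_congr rfl fun h _ => Finset.sum_congr rfl fun Y _ => by ring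
    _ = (Nat.card H : ℂ)⁻¹ * ((Nat.card G : ℂ) / ((H.index : ℂ) * Nat.card K) ^ 2 *
          ∑ h : H, chi H h * P h) := by
        simp only [Finset.mul_sum (a := (Nat.card G : ℂ) / ((H.index : ℂ) * Nat.card K) ^ 2)]
        congr 1
        refine Finset.sum_congr rfl fun h _ => ?_
        rw [hP (h : G)]; ring
    _ = _ := by
        rw [hsum, ← Subgroup.index_mul_card H, Nat.cast_mul]
        simp only [c]
        field_simp

end Setup

end

end Cfsg.Agent.Bender42
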