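import Mathlib.Algebra.BigOperators.Fin
import Mathlib.Algebra.Order.BigOperators.Group.Finset
import Mathlib.Algebra.Order.Chebyshev
import Mathlib.Tactic.Linarith
import Mathlib.Tactic.Ring
import Mathlib.Algebra.Ring.Parity
import Mathlib.Tactic.LinearCombination

/-!
The arithmetic of the multiplicity vectors: the constituents of the induced character are so few
that their multiplicities are large.
-/

set_option autoImplicit false

namespace Cfsg.Agent.Bender42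

variable {ι Λ : Type*}

theorem exists_of_sum_sq_one {s : Finset ι} {f : ι → ℤ} (h : ∑ y ∈ s, f y ^ 2 = 1) :
    ∃ y ∈ s, (f y = 1 ∨ f y = -1) ∧ ∀ y' ∈ s, y' ≠ y → f y' = 0 := by
  classical
  obtain ⟨y, hy, hne⟩ : ∃ y ∈ s, f y ≠ 0 := by
    by_contra hall
    push Not at hall
    rw [Finset.sum_eq_zero fun y hy => by rw [hall y hy]; norm_num] at h
    exact zero_ne_one h
  have h1 : 1 ≤ f y ^ 2 := by
    have := sq_pos_of_ne_zero hne
    omega
  rw [← Finset.add_sum_erase s _ hy] at h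
  have h2 : 0 ≤ ∑ x ∈ s.erase y, f x ^ 2 := Finset.sum_nonneg fun x _ => sq_nonneg _
  refine ⟨y, hy, sq_eq_one_iff.1 (by omega), fun y' hy' hne' => ?_⟩
  have h3 : ∑ x ∈ s.erase y, f x ^ 2 = 0 := by omega
  exact pow_eq_zero_iff two_ne_zero |>.1
    ((Finset.sum_eq_zero_iff_of_nonneg fun x _ => sq_nonneg _).1 h3 y'
      (Finset.mem_erase.2 ⟨hne', hy'⟩))

/-- The data of the combinatorial part. -/
structure Counts (P : Finset ι) (a e x0 : ι → ℤ) (x : ι → Λ → ℤ) (rel : Λ → Λ → Prop) [DecidableRel rel]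
    [Fintype Λ] (r d : ℕ) : Prop where
  a_pos : ∀ Y ∈ P, 1 ≤ a Y
  e_pos : ∀ Y ∈ P, 1 ≤ e Y
  sum_ae : ∑ Y ∈ P, a Y * e Y = d
  sum_x : ∀ Y ∈ P, x0 Y + ∑ l, x Y l = 2 * e Y
  sum_sq : ∑ Y ∈ P, (x0 Y ^ 2 + ∑ l, x Y l ^ 2) < (d : ℤ) + 4 * r
  sum_e_sq : ∑ Y ∈ P, e Y ^ 2 < (r : ℤ) * (d + 1)
  col : ∀ l, ∑ Y ∈ P, a Y * x Y l = 2
  card_eq : Fintype.card Λ = d
  rel_refl : ∀ l, rel l l
  rel_card : ∀ l, (Finset.univ.filter (rel l)).card = 2 * r
  rel_x : ∀ l l', rel l l' → ∀ Y, x Y l = x Y l'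
  pair : ∀ l l', ¬ rel l l' → ∑ Y ∈ P, (x Y l - x Y l') ^ 2 ≤ 2
  triple : ∀ l l' l'', ¬ rel l l' → ¬ rel l l'' → ¬ rel l' l'' →
    ∑ Y ∈ P, (x Y l - x Y l'') ^ 2 = 2 → ∑ Y ∈ P, (x Y l' - x Y l'') ^ 2 = 2 →
    (∀ Y ∈ P, x Y l = x Y l') → False
  norm : (r : ℤ) + d ≤ r * ∑ Y ∈ P, a Y ^ 2
  r_odd : Odd r
  d_even : Even d
  size : 6 * r ≤ d ∨ (d = 2 * r ∧ r ≤ 3)

namespace Counts

variable {P : Finset ι} {a e x0 : ι → ℤ} {x : ι → Λ → ℤ} {rel : Λ → Λ → Prop} [DecidableRel rel]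
  [Fintype Λ] {r d : ℕ} (C : Counts P a e x0 x rel r d)
include C

theorem r_pos : 1 ≤ r := by obtain ⟨m, hm⟩ := C.r_odd; omega

theorem q_pos (l : Λ) : 1 ≤ ∑ Y ∈ P, x Y l ^ 2 := by
  by_contra hlt
  have h2 : 0 ≤ ∑ Y ∈ P, x Y l ^ 2 := Finset.sum_nonneg fun y _ => sq_nonneg _
  have h3 : ∑ Y ∈ P, x Y l ^ 2 = 0 := by omega
  have := C.col l
  rw [Finset.sum_eq_zero fun Y hY => by
    rw [pow_eq_zero_iff two_ne_zero |>.1
      ((Finset.sum_eq_zero_iff_of_nonneg fun y _ => sq_nonneg _).1 h3 Y hY), mul_zero]] at this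
  omega

theorem q_total : (∑ Y ∈ P, x0 Y ^ 2) + ∑ l, (∑ Y ∈ P, x Y l ^ 2) < (d : ℤ) + 4 * r := by
  have := C.sum_sq
  rwa [Finset.sum_add_distrib, Finset.sum_comm] at this

theorem q_le (l : Λ) : ∑ Y ∈ P, x Y l ^ 2 ≤ 2 := by
  by_contra hlt
  push Not at hlt
  have h1 : (4 * r : ℤ) ≤ ∑ l', ((∑ Y ∈ P, x Y l' ^ 2) - 1) := by
    refine le_trans ?_ (Finset.sum_le_sum_of_subset_of_nonneg
      (Finset.subset_univ (Finset.univ.filter (rel l))) fun i _ _ => by linarith [C.q_pos i])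
    refine le_trans ?_ (Finset.sum_le_sum (f := fun _ => (2 : ℤ)) fun l' hl' => ?_)
    · rw [Finset.sum_const, C.rel_card, nsmul_eq_mul]
      push_cast; linarith
    · rw [Finset.sum_congr rfl fun Y _ => by
        rw [← C.rel_x l l' (Finset.mem_filter.1 hl').2 Y]]
      linarith
  rw [Finset.sum_sub_distrib, Finset.sum_const, Finset.card_univ, C.card_eq, nsmul_eq_mul,
    mul_one] at h1
  have h0 : 0 ≤ ∑ Y ∈ P, x0 Y ^ 2 := Finset.sum_nonneg fun y _ => sq_nonneg _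
  linarith [C.q_total]

theorem unit_of_q_one {l : Λ} (h : ∑ Y ∈ P, x Y l ^ 2 = 1) :
    ∃ Y ∈ P, x Y l = 1 ∧ a Y = 2 ∧ ∀ Y' ∈ P, Y' ≠ Y → x Y' l = 0 := by
  obtain ⟨Y, hY, hx, h0⟩ := exists_of_sum_sq_one h
  have hc := C.col l
  rw [Finset.sum_eq_single Y (fun Y' hY' hne => by rw [h0 Y' hY' hne, mul_zero])
    (fun h => absurd hY h)] at hc
  have := C.a_pos Y hY
  rcases hx with hx | hx <;> rw [hx] at hc
  · exact ⟨Y, hY, hx, by linarith, h0⟩
  · linarith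

theorem all_one (hbig : 6 * r ≤ d) (l : Λ) : ∑ Y ∈ P, x Y l ^ 2 = 1 := by
  rcases (show ∑ Y ∈ P, x Y l ^ 2 = 1 ∨ ∑ Y ∈ P, x Y l ^ 2 = 2 by
    have := C.q_le l; have := C.q_pos l; omega) with h | h
  · exact h
  exfalso
  obtain ⟨l', hl'⟩ : ∃ l', ∑ Y ∈ P, x Y l' ^ 2 = 1 := by
    by_contra hall
    push Not at hall
    have h1 : (2 : ℤ) * d ≤ ∑ l', (∑ Y ∈ P, x Y l' ^ 2) := by
      refine le_trans (le_of_eq ?_) (Finset.sum_le_sum (f := fun _ => (2 : ℤ)) fun i _ => ?_)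
      · rw [Finset.sum_const, Finset.card_univ, C.card_eq, nsmul_eq_mul]; ring
      · have := C.q_pos i; have := hall i; omega
    have h0 : 0 ≤ ∑ Y ∈ P, x0 Y ^ 2 := Finset.sum_nonneg fun y _ => sq_nonneg _
    have hb : (6 : ℤ) * r ≤ d := by exact_mod_cast hbig
    linarith [C.q_total]
  have hrel : ¬ rel l l' := fun hr => by
    rw [Finset.sum_congr rfl fun Y _ => by rw [C.rel_x l l' hr Y]] at h
    omega
  have hp := C.pair l l' hrel
  have he : ∑ Y ∈ P, (x Y l - x Y l') ^ 2 = 3 - 2 * ∑ Y ∈ P, x Y l * x Y l' := by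
    rw [show (3 : ℤ) = (∑ Y ∈ P, x Y l ^ 2) + ∑ Y ∈ P, x Y l' ^ 2 by rw [h, hl']; norm_num,
      Finset.mul_sum, ← Finset.sum_add_distrib, ← Finset.sum_sub_distrib]
    exact Finset.sum_congr rfl fun Y _ => by ring
  have h0 : 0 ≤ ∑ Y ∈ P, (x Y l - x Y l') ^ 2 := Finset.sum_nonneg fun y _ => sq_nonneg _
  obtain ⟨Y, hY, hx, hz⟩ := exists_of_sum_sq_one (f := fun Y => x Y l - x Y l') (s := P)
    (by omega)
  have hc : ∑ Y ∈ P, a Y * (x Y l - x Y l') = 0 := by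
    simp only [mul_sub, Finset.sum_sub_distrib, C.col, sub_self]
  rw [Finset.sum_eq_single Y (fun Y' hY' hne => by rw [hz Y' hY' hne, mul_zero])
    (fun h => absurd hY h)] at hc
  have := C.a_pos Y hY
  rcases hx with hx | hx <;> rw [hx] at hc <;> linarith

/-- The conclusion in the general case. -/
theorem large (hbig : 6 * r ≤ d) : 2 * (d : ℤ) ≤ r * ∑ Y ∈ P, a Y ^ 2 := by
  classical
  choose f hfP hf1 hf2 hf0 using fun l => C.unit_of_q_one (C.all_one hbig l)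
  have hval : ∀ l, ∀ Y ∈ P, x Y l = if Y = f l then 1 else 0 := fun l Y hY => by
    split_ifs with h
    · rw [h]; exact hf1 l
    · exact hf0 l Y hY h
  have hdiff : ∀ l l', f l ≠ f l' → ∑ Y ∈ P, (x Y l - x Y l') ^ 2 = 2 := fun l l' hne => by
    rw [Finset.sum_congr rfl (g := fun Y => (if Y = f l then (1 : ℤ) else 0) +
      if Y = f l' then 1 else 0) fun Y hY => ?_, Finset.sum_add_distrib, Finset.sum_ite_eq',
      Finset.sum_ite_eq', if_pos (hfP l), if_pos (hfP l')]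
    · norm_num
    · rw [hval l Y hY, hval l' Y hY]
      by_cases h1 : Y = f l
      · subst h1; simp [hne]
      · simp [h1]
  have hnrel : ∀ l l', f l ≠ f l' → ¬ rel l l' := fun l l' hne hr => by
    have h := C.rel_x l l' hr (f l)
    rw [hf1, hval l' _ (hfP l), if_neg hne] at h
    exact one_ne_zero h
  by_cases hfib : ∀ l l', f l = f l' → rel l l'
  · have h1 : d ≤ (2 * r) * (Finset.univ.image f).card := by
      rw [← C.card_eq, ← Finset.card_univ]
      refine Finset.card_le_mul_card_image _ _ fun y hy => ?_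
      obtain ⟨l, -, rfl⟩ := Finset.mem_image.1 hy
      rw [← C.rel_card l]
      exact Finset.card_le_card fun l' hl' =>
        Finset.mem_filter.2 ⟨Finset.mem_univ _, hfib l l' (Finset.mem_filter.1 hl').2.symm⟩
    have h2 : (4 : ℤ) * (Finset.univ.image f).card ≤ ∑ Y ∈ P, a Y ^ 2 := by
      refine le_trans (le_of_eq ?_) (Finset.sum_le_sum_of_subset_of_nonneg
        (s := Finset.univ.image f) (fun y hy => ?_) fun i _ _ => sq_nonneg _)
      · rw [Finset.sum_congr rfl (g := fun _ => (4 : ℤ)) fun y hy => ?_, Finset.sum_const,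
          nsmul_eq_mul, mul_comm]
        obtain ⟨l, -, rfl⟩ := Finset.mem_image.1 hy
        rw [hf2]; norm_num
      · obtain ⟨l, -, rfl⟩ := Finset.mem_image.1 hy
        exact hfP l
    have h3 : (d : ℤ) ≤ 2 * r * (Finset.univ.image f).card := by exact_mod_cast h1
    have h4 := mul_le_mul_of_nonneg_left h2 (Nat.cast_nonneg (α := ℤ) r)
    linarith
  exfalso
  push Not at hfib
  obtain ⟨l, l', hll, hn⟩ := hfib
  have hconst : ∀ l'', f l'' = f l := fun l'' => by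
    by_contra hne
    refine C.triple l l' l'' hn (hnrel _ _ (Ne.symm hne)) (hnrel _ _ (hll ▸ Ne.symm hne))
      (hdiff _ _ (Ne.symm hne)) (hdiff _ _ (hll ▸ Ne.symm hne)) fun Y hY => ?_
    rw [hval l Y hY, hval l' Y hY, hll]
  obtain ⟨S, hS⟩ : ∃ S, S = ∑ Y ∈ P.erase (f l), a Y * e Y := ⟨_, rfl⟩
  have hY0 := hfP l
  have hae := C.sum_ae
  rw [← Finset.add_sum_erase _ _ hY0, hf2 l, ← hS] at hae
  have hS0 : 0 ≤ S := hS ▸ Finset.sum_nonneg fun Y hY => by
    have := C.a_pos Y (Finset.mem_of_mem_erase hY)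
    have := C.e_pos Y (Finset.mem_of_mem_erase hY)
    positivity
  have hx0 := C.sum_x _ hY0
  rw [Finset.sum_congr rfl (g := fun _ => (1 : ℤ)) (fun l'' _ => by rw [← hconst l'', hf1]),
    Finset.sum_const, Finset.card_univ, C.card_eq, nsmul_eq_mul, mul_one] at hx0
  have hbud := C.q_total
  rw [Finset.sum_congr rfl (g := fun _ => (1 : ℤ)) (fun l'' _ => C.all_one hbig l''),
    Finset.sum_const, Finset.card_univ, C.card_eq, nsmul_eq_mul, mul_one] at hbud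
  have h5 : x0 (f l) ^ 2 ≤ ∑ Y ∈ P, x0 Y ^ 2 :=
    Finset.single_le_sum (f := fun Y => x0 Y ^ 2) (fun i _ => sq_nonneg _) hY0
  have h6 : e (f l) ^ 2 ≤ ∑ Y ∈ P, e Y ^ 2 :=
    Finset.single_le_sum (f := fun Y => e Y ^ 2) (fun i _ => sq_nonneg _) hY0
  have hSx : x0 (f l) = -S := by linarith
  rw [hSx, neg_sq] at h5
  have hSr : S < r := by
    obtain ⟨m, hm⟩ := C.r_odd
    obtain ⟨k, hk⟩ := C.d_even
    have hk' : (d : ℤ) = k + k := by exact_mod_cast hk
    by_contra hle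
    push Not at hle
    have h7 : (r : ℤ) * r ≤ S ^ 2 := by rw [sq]; exact mul_le_mul hle hle (Nat.cast_nonneg _) hS0
    rcases (show r = 1 ∨ r = 3 ∨ 5 ≤ r by omega) with hr | hr | hr
    · subst hr
      have h8 : S ^ 2 < 4 := by push_cast at hbud; linarith
      have h9 : 2 ≤ S := by push_cast at hle; omega
      nlinarith
    · subst hr
      have h8 : S ^ 2 < 12 := by push_cast at hbud; linarith
      have h9 : 4 ≤ S := by push_cast at hle; omega
      nlinarith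
    · have h10 : (5 : ℤ) * r ≤ r * r :=
        mul_le_mul_of_nonneg_right (by exact_mod_cast hr) (Nat.cast_nonneg _)
      have := C.r_pos
      linarith
  have hE : ((d : ℤ) - S) ^ 2 = 4 * e (f l) ^ 2 := by
    rw [show (d : ℤ) - S = 2 * e (f l) by linarith]; ring
  have hb : (6 : ℤ) * r ≤ d := by exact_mod_cast hbig
  have h11 : (2 : ℤ) * d ≤ (d - 2 * S - 4 * r) * d :=
    mul_le_mul_of_nonneg_right (by omega) (Nat.cast_nonneg _)
  nlinarith [C.sum_e_sq, sq_nonneg S]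

/-- The conclusion when the nontrivial characters form one orbit. -/
theorem small (hd : d = 2 * r) (hr : r ≤ 3) : 4 ≤ ∑ Y ∈ P, a Y ^ 2 := by
  classical
  have hr1 := C.r_pos
  obtain ⟨l⟩ : Nonempty Λ := Fintype.card_pos_iff.1 (by rw [C.card_eq]; omega)
  have hall : ∀ l', rel l l' := fun l' => by
    have h := Finset.eq_univ_of_card (Finset.univ.filter (rel l)) (by rw [C.rel_card, C.card_eq, hd])
    exact (Finset.mem_filter.1 (show l' ∈ Finset.univ.filter (rel l) by rw [h]; exact Finset.mem_univ _)).2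
  by_cases hbig : ∃ Y ∈ P, 2 ≤ a Y
  · obtain ⟨Y, hY, h2⟩ := hbig
    refine le_trans ?_ (Finset.single_le_sum (f := fun Y => a Y ^ 2) (fun i _ => sq_nonneg _) hY)
    nlinarith
  push Not at hbig
  have ha : ∀ Y ∈ P, a Y = 1 := fun Y hY => by have := C.a_pos Y hY; have := hbig Y hY; omega
  by_contra hlt
  rcases (show ∑ Y ∈ P, x Y l ^ 2 = 1 ∨ ∑ Y ∈ P, x Y l ^ 2 = 2 by
    have := C.q_le l; have := C.q_pos l; omega) with h | h
  · obtain ⟨Y, hY, -, h2, -⟩ := C.unit_of_q_one h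
    rw [ha Y hY] at h2
    omega
  have hc := C.col l
  rw [Finset.sum_congr rfl fun Y hY => by rw [ha Y hY, one_mul]] at hc
  -- every coordinate is `0` or `1`
  have hb01 : ∀ Y ∈ P, x Y l = x Y l ^ 2 := by
    have h1 : ∑ Y ∈ P, (x Y l ^ 2 - x Y l) = 0 := by rw [Finset.sum_sub_distrib, h, hc, sub_self]
    intro Y hY
    have := (Finset.sum_eq_zero_iff_of_nonneg fun y _ => ?_).1 h1 Y hY
    · linarith
    · rcases le_or_gt 1 (x y l) with hy | hy <;> nlinarith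
  obtain ⟨Q, hQ⟩ : ∃ Q, Q = P.filter fun Y => x Y l ≠ 0 := ⟨_, rfl⟩
  have hx1 : ∀ Y ∈ Q, x Y l = 1 := fun Y hY => by
    rw [hQ, Finset.mem_filter] at hY
    have h1 := hb01 Y hY.1
    have h2 : x Y l * (x Y l - 1) = 0 := by linear_combination -h1
    rcases mul_eq_zero.1 h2 with h3 | h3
    · exact absurd h3 hY.2
    · linarith
  have hQ2 : Q.card = 2 := by
    have h1 : ∑ Y ∈ Q, x Y l = 2 := by rw [hQ, Finset.sum_filter_ne_zero]; exact hc
    rw [Finset.sum_congr rfl hx1, Finset.sum_const, nsmul_eq_mul, mul_one] at h1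
    exact_mod_cast h1
  obtain ⟨Y1, Y2, h12, hQe⟩ := Finset.card_eq_two.1 hQ2
  have hm : ∀ Y ∈ Q, Y ∈ P := fun Y hY => (Finset.mem_filter.1 (hQ ▸ hY)).1
  obtain ⟨Y3, hY3, h3Q⟩ : ∃ Y ∈ P, Y ∉ Q := by
    by_contra hsub
    push Not at hsub
    have hn := C.norm
    have h1 : ∑ Y ∈ P, a Y ^ 2 = (P.card : ℤ) := by
      rw [Finset.sum_congr rfl (g := fun _ => (1 : ℤ)) fun Y hY => by rw [ha Y hY, one_pow]]
      simp
    have h2 : P.card ≤ 2 := hQ2 ▸ Finset.card_le_card hsub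
    rw [h1, hd] at hn
    push_cast at hn
    have h3 : (r : ℤ) * P.card ≤ r * 2 :=
      mul_le_mul_of_nonneg_left (by exact_mod_cast h2) (Nat.cast_nonneg _)
    have h4 : (1 : ℤ) ≤ r := by exact_mod_cast hr1
    linarith
  have hP1 := hm Y1 (by rw [hQe]; simp)
  have hP2 := hm Y2 (by rw [hQe]; simp)
  have h31 : Y3 ≠ Y1 := fun e => h3Q (by rw [hQe, e]; simp)
  have h32 : Y3 ≠ Y2 := fun e => h3Q (by rw [hQe, e]; simp)
  have hxc : ∀ Y, ∑ l', x Y l' = (2 * r : ℤ) * x Y l := fun Y => by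
    rw [Finset.sum_congr rfl (g := fun _ => x Y l) (fun l' _ => (C.rel_x l l' (hall l') Y).symm),
      Finset.sum_const, Finset.card_univ, C.card_eq, hd, nsmul_eq_mul]
    push_cast; ring
  have s1 := C.sum_x Y1 hP1
  have s2 := C.sum_x Y2 hP2
  have s3 := C.sum_x Y3 hY3
  rw [hxc, hx1 Y1 (by rw [hQe]; simp)] at s1
  rw [hxc, hx1 Y2 (by rw [hQe]; simp)] at s2
  rw [hxc, show x Y3 l = 0 from by_contra fun hne => h3Q (hQ ▸ Finset.mem_filter.2 ⟨hY3, hne⟩)]
    at s3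
  have hsub : ({Y1, Y2, Y3} : Finset ι) ⊆ P := by
    simp [Finset.insert_subset_iff, hP1, hP2, hY3]
  have hae : e Y1 + e Y2 + e Y3 ≤ 2 * r := by
    have h1 := Finset.sum_le_sum_of_subset_of_nonneg (f := fun Y => a Y * e Y) hsub fun Y hY _ => by
      have := C.a_pos Y hY; have := C.e_pos Y hY; positivity
    rw [Finset.sum_insert (by simp [h12, h31.symm]), Finset.sum_pair h32.symm, C.sum_ae, hd,
      ha Y1 hP1, ha Y2 hP2, ha Y3 hY3] at h1
    push_cast at h1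
    linarith
  have hbud : x0 Y1 ^ 2 + x0 Y2 ^ 2 + x0 Y3 ^ 2 < 2 * r := by
    have h1 := Finset.sum_le_sum_of_subset_of_nonneg (f := fun Y => x0 Y ^ 2) hsub fun Y _ _ =>
      sq_nonneg _
    rw [Finset.sum_insert (by simp [h12, h31.symm]), Finset.sum_pair h32.symm] at h1
    have h2 := C.q_total
    have hq : ∀ l' : Λ, ∑ Y ∈ P, x Y l' ^ 2 = (2 : ℤ) := fun l' =>
      (Finset.sum_congr rfl fun Y _ => by rw [C.rel_x l l' (hall l') Y]).trans h
    rw [Finset.sum_congr rfl (g := fun _ => (2 : ℤ)) (fun l' _ => hq l'),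
      Finset.sum_const, Finset.card_univ, C.card_eq, hd, nsmul_eq_mul] at h2
    push_cast at h2
    linarith
  have e3 := C.e_pos Y3 hY3
  have hr3 : (r : ℤ) ≤ 3 := by exact_mod_cast hr
  have q3 : 4 ≤ x0 Y3 ^ 2 := by nlinarith
  rcases lt_or_ge (e Y1) r with hlt1 | hge1
  · have q1 : 4 ≤ x0 Y1 ^ 2 := by nlinarith
    nlinarith [sq_nonneg (x0 Y2)]
  · have q2 : 4 ≤ x0 Y2 ^ 2 := by nlinarith
    nlinarith [sq_nonneg (x0 Y1)]

/-- The multiplicities are large. -/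
theorem main : 2 * (d : ℤ) ≤ r * ∑ Y ∈ P, a Y ^ 2 := by
  rcases C.size with h | ⟨h, h'⟩
  · exact C.large h
  · have h4 := mul_le_mul_of_nonneg_left (C.small h h') (Nat.cast_nonneg (α := ℤ) r)
    subst h
    push_cast
    linarith

end Counts

end Cfsg.Agent.Bender42
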