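import Cfsg.Agent.Bender42.Basic
import Cfsg.Agent.Bender20.CCSubgroup

/-!
The orbits of the normaliser on the non-trivial characters of `K`.
-/

set_option autoImplicit false
set_option linter.unusedSectionVars false

namespace Cfsg.Agent.Bender42

open scoped ComplexConjugate Classical

noncomputable section

universe w

variable {G : Type w} [Group G] [Fintype G]

/-- The non-trivial characters of a subgroup. -/
abbrev Lam (K : Subgroup G) : Type w := {l : Cfsg.IrrCharacter K // l ≠ Bender20.trivF K}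

/-- Conjugacy under the normaliser. -/
def rel (K : Subgroup G) (l l' : Lam K) : Prop :=
  ∃ y : Subgroup.normalizer (K : Set G), Bender20.cjChar y l.1 = l'.1

theorem cjChar_apply {K : Subgroup G} (y : Subgroup.normalizer (K : Set G))
    (l : Cfsg.IrrCharacter K) (f : K) :
    (Bender20.cjChar y l : K → ℂ) f = (l : K → ℂ) (Bender20.cjF y f) := rfl

theorem cjChar_mul {K : Subgroup G} (y y' : Subgroup.normalizer (K : Set G))
    (l : Cfsg.IrrCharacter K) :
    Bender20.cjChar y' (Bender20.cjChar y l) = Bender20.cjChar (y * y') l :=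
  Subtype.ext (funext fun f => congrArg (l : K → ℂ) (Subtype.ext (by simp [Bender20.cjF_coe, mul_assoc])))

theorem cjChar_one {K : Subgroup G} (l : Cfsg.IrrCharacter K) :
    Bender20.cjChar (1 : Subgroup.normalizer (K : Set G)) l = l :=
  Subtype.ext (funext fun f => congrArg (l : K → ℂ) (Subtype.ext (by simp [Bender20.cjF_coe])))

theorem cjChar_trivF {K : Subgroup G} (y : Subgroup.normalizer (K : Set G)) :
    Bender20.cjChar y (Bender20.trivF K) = Bender20.trivF K :=
  Subtype.ext rfl

theorem rel_refl {K : Subgroup G} (l : Lam K) : rel K l l := ⟨1, cjChar_one _⟩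

theorem rel_symm {K : Subgroup G} {l l' : Lam K} (h : rel K l l') : rel K l' l := by
  obtain ⟨y, hy⟩ := h
  exact ⟨y⁻¹, by rw [← hy, cjChar_mul, mul_inv_cancel, cjChar_one]⟩

variable {H K B : Subgroup G} {u z : G}

namespace Setup

variable (S : Setup H K B u z)
include S

theorem sum_one_irr : Fintype.card (Cfsg.IrrCharacter K) = Nat.card K := by
  have h := CharCore.sum_degree_sq (G := K)
  simp only [Bender20.irr_degree_one S.cc, one_pow, Finset.sum_const, nsmul_eq_mul, mul_one,
    Finset.card_univ] at h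
  exact_mod_cast h

theorem card_Lam : Fintype.card (Lam K) = Nat.card K - 1 := by
  rw [Fintype.card_subtype_compl, Fintype.card_subtype_eq, S.sum_one_irr]

theorem mem_normalizer_of_B {b : G} (hb : b ∈ B) : b ∈ Subgroup.normalizer (K : Set G) := by
  obtain ⟨k, hk, hk1⟩ := K.bot_or_exists_ne_one.resolve_left S.K_ne
  exact S.cc.mem_normalizer hk hk1 (S.B_norm b hb k hk)

theorem u_mem_normalizer : u ∈ Subgroup.normalizer (K : Set G) := by
  obtain ⟨k, hk, hk1⟩ := K.bot_or_exists_ne_one.resolve_left S.K_ne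
  refine S.cc.mem_normalizer hk hk1 ?_
  rw [S.inverts k hk]
  exact inv_mem hk

/-- An orbit has twice as many members as `B`. -/
theorem rel_card (l : Lam K) :
    (Finset.univ.filter (rel K l)).card = 2 * Nat.card B := by
  rw [← Nat.card_eq_finsetCard]
  let el : B × Bool → Subgroup.normalizer (K : Set G) := fun q =>
    (if q.2 then ⟨u, S.u_mem_normalizer⟩ else 1) * ⟨q.1, S.mem_normalizer_of_B q.1.2⟩
  let f : B × Bool → {l' // l' ∈ Finset.univ.filter (rel K l)} := fun q =>
    ⟨⟨Bender20.cjChar (el q) l.1, fun h => l.2 (by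
      have h' := congrArg (Bender20.cjChar (el q)⁻¹) h
      rwa [cjChar_mul, mul_inv_cancel, cjChar_one, cjChar_trivF] at h')⟩,
      Finset.mem_filter.2 ⟨Finset.mem_univ _, el q, rfl⟩⟩
  have hinj : Function.Injective f := by
    intro p q e
    have e1 : Bender20.cjChar (el p) l.1 = Bender20.cjChar (el q) l.1 :=
      congrArg (fun x : {l' // l' ∈ Finset.univ.filter (rel K l)} => x.1.1) e
    have e2 : Bender20.cjChar (el p * (el q)⁻¹) l.1 = l.1 := by
      rw [← cjChar_mul, e1, cjChar_mul, mul_inv_cancel, cjChar_one]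
    have h := Bender20.mem_of_cjChar_eq S.cc e2 l.2
    obtain ⟨⟨b, hb⟩, s⟩ := p
    obtain ⟨⟨c, hc⟩, s'⟩ := q
    have hu : ∀ x : G, x ∈ B → u * x * u ∈ K → x ∈ K := fun x hx hk => by
      have h1 := S.conj_u_B hx
      rw [S.u_inv] at h1
      rwa [h1] at hk
    have hbc := mul_mem hb (inv_mem hc)
    cases s <;> cases s' <;>
      simp only [el, Bool.false_eq_true, if_false, if_true, one_mul, Subgroup.coe_mul,
        InvMemClass.coe_inv, mul_inv_rev, S.u_inv] at h
    · exact Prod.ext (Subtype.ext (mul_inv_eq_one.1 (S.K_inter_B h hbc))) rfl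
    · exfalso
      have h2 := mul_mem (inv_mem (S.B_le hbc)) (S.K_le h)
      rw [show b * (c⁻¹ * u) = b * c⁻¹ * u by group, inv_mul_cancel_left] at h2
      exact S.u_out h2
    · exfalso
      have h2 := mul_mem (S.K_le h) (inv_mem (S.B_le hbc))
      rw [mul_assoc u b c⁻¹, mul_inv_cancel_right] at h2
      exact S.u_out h2
    · refine Prod.ext (Subtype.ext (mul_inv_eq_one.1 (S.K_inter_B (hu _ hbc ?_) hbc))) rfl
      simpa [mul_assoc] using h
  have hsurj : Function.Surjective f := by
    rintro ⟨l', hl'⟩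
    obtain ⟨y, hy⟩ := (Finset.mem_filter.1 hl').2
    obtain ⟨k, hk, b, hb, e⟩ := S.normalizer_form y.2
    have hkey : ∀ (y₀ : Subgroup.normalizer (K : Set G)),
        (y₀ : G) = k → ∀ w : Cfsg.IrrCharacter K, Bender20.cjChar y₀ w = w :=
      fun y₀ h w => Bender20.cjChar_eq_of_mem S.cc (h ▸ hk) w
    rcases e with e | e
    · refine ⟨(⟨b, hb⟩, false), Subtype.ext (Subtype.ext ?_)⟩
      show Bender20.cjChar (el (⟨b, hb⟩, false)) l.1 = l'.1
      rw [← hy]
      have : y = ⟨k, Subgroup.le_normalizer hk⟩ * el (⟨b, hb⟩, false) :=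
        Subtype.ext (by simp [el, e])
      rw [this, ← cjChar_mul ⟨k, Subgroup.le_normalizer hk⟩ (el (⟨b, hb⟩, false)), hkey ⟨k, Subgroup.le_normalizer hk⟩ rfl]
    · refine ⟨(⟨b, hb⟩, true), Subtype.ext (Subtype.ext ?_)⟩
      show Bender20.cjChar (el (⟨b, hb⟩, true)) l.1 = l'.1
      rw [← hy]
      have : y = ⟨k⁻¹, Subgroup.le_normalizer (inv_mem hk)⟩ * el (⟨b, hb⟩, true) := by
        refine Subtype.ext ?_
        simp only [el, if_true, Subgroup.coe_mul]
        rw [e, ← mul_assoc, ← mul_assoc, mul_inv_eq_iff_eq_mul.1 (S.inverts k hk)]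
      rw [this, ← cjChar_mul ⟨k⁻¹, Subgroup.le_normalizer (inv_mem hk)⟩ (el (⟨b, hb⟩, true)),
        Bender20.cjChar_eq_of_mem S.cc (y := ⟨k⁻¹, Subgroup.le_normalizer (inv_mem hk)⟩) (inv_mem hk)]
  rw [← Nat.card_eq_of_bijective f ⟨hinj, hsurj⟩, Nat.card_prod, Nat.card_eq_fintype_card (α := Bool),
    Fintype.card_bool, mul_comm]

end Setup

end

end Cfsg.Agent.Bender42
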