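import Cfsg.Agent.Bender42.Char
import Cfsg.Agent.Bender42.Family
import Cfsg.Agent.Bender42.Combin

/-!
The constituents of the induced character, and the bound for the orbits at a point.
-/

set_option autoImplicit false
set_option linter.unusedSectionVars false

namespace Cfsg.Agent.Bender42

open scoped ComplexConjugate Classical

noncomputable section

universe w

variable {G : Type w} [Group G] [Fintype G] {H K B : Subgroup G} {u z : G}

namespace Setup

variable (S : Setup H K B u z)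
include S

theorem sum_conj_lin (l : Cfsg.IrrCharacter K) :
    ∑ f : K, conj ((l : K → ℂ) f) = if l = Bender20.trivF K then (Nat.card K : ℂ) else 0 := by
  have hK0 : (Nat.card K : ℂ) ≠ 0 := Nat.cast_ne_zero.2 Nat.card_pos.ne'
  by_cases e : l = Bender20.trivF K
  · have h := CharCore.classInner_irr_self (Bender20.trivF K)
    simp only [Cfsg.classInner, Bender20.trivF, Pi.one_apply, one_mul] at h
    rw [if_pos e, e]
    exact ((inv_mul_eq_iff_eq_mul₀ hK0).1 h).trans (mul_one _)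
  · have h := CharCore.classInner_irr_of_ne (Ne.symm e)
    simp only [Cfsg.classInner, Bender20.trivF, Pi.one_apply, one_mul] at h
    rw [if_neg e]
    exact ((inv_mul_eq_iff_eq_mul₀ hK0).1 h).trans (mul_zero _)

theorem mult_Phi (l : Cfsg.IrrCharacter K) :
    (Nat.card K : ℂ) * Bender20.mult (Phi H) l =
      (H.index : ℂ) * ((Nat.card K : ℂ) - 1) + 2 -
        2 * (if l = Bender20.trivF K then (Nat.card K : ℂ) else 0) := by
  have hK0 : (Nat.card K : ℂ) ≠ 0 := Nat.cast_ne_zero.2 Nat.card_pos.ne'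
  have hterm : ∀ f : K, Phi H f * conj ((l : K → ℂ) f) =
      (if f = 1 then (H.index : ℂ) * ((Nat.card K : ℂ) - 1) + 2 else 0) +
        -2 * conj ((l : K → ℂ) f) := fun f => by
    by_cases hf : f = 1
    · subst hf
      rw [if_pos rfl, Bender20.irr_degree_one S.cc, OneMemClass.coe_one, S.Phi_one, map_one]
      ring
    · rw [if_neg hf, zero_add, S.Phi_K f.2 fun e => hf (Subtype.ext e)]
  rw [Bender20.mult, Cfsg.classInner, ← mul_assoc, mul_inv_cancel₀ hK0, one_mul,
    Finset.sum_congr rfl fun f _ => hterm f, Finset.sum_add_distrib, ← Finset.mul_sum,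
    S.sum_conj_lin, Finset.sum_ite_eq', if_pos (Finset.mem_univ _)]
  ring

theorem exists_t : ∃ t : ℤ, (H.index : ℤ) = (Nat.card K : ℤ) * t + 2 := by
  obtain ⟨m, hm⟩ := Bender20.mult_natCast S.isCharacter_Phi (Bender20.trivF K)
  have h := S.mult_Phi (Bender20.trivF K)
  rw [if_pos rfl, hm] at h
  have h' : ((Nat.card K : ℤ) * m : ℤ) =
      (H.index : ℤ) * ((Nat.card K : ℤ) - 1) + 2 - 2 * (Nat.card K : ℤ) := by exact_mod_cast h
  exact ⟨(H.index : ℤ) - 2 - m, by linear_combination h'⟩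

/-- The data of the constituents. -/
theorem exists_counts :
    ∃ (a e : Cfsg.IrrCharacter G → ℤ) (t : ℤ) (P : Finset (Cfsg.IrrCharacter G)),
      (H.index : ℤ) = (Nat.card K : ℤ) * t + 2 ∧
      (∀ Y : Cfsg.IrrCharacter G, Cfsg.classInner (Phi H) (Y : G → ℂ) = (a Y : ℂ)) ∧
      (∀ Y : Cfsg.IrrCharacter G, Y ∉ P → a Y = 0) ∧ (∀ Y ∈ P, 1 ≤ a Y) ∧ (∀ Y ∈ P, 1 ≤ e Y) ∧
      (∀ Y ∈ P, (Y : G → ℂ) 1 = (H.index : ℂ) * (e Y : ℂ)) ∧
      ∑ Y ∈ P, a Y * e Y = (Nat.card K : ℤ) - 1 ∧
      ∑ Y ∈ P, e Y ^ 2 < (Nat.card B : ℤ) * Nat.card K := by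
  have hΦ := S.isCharacter_Phi
  choose a ha using fun Y : Cfsg.IrrCharacter G =>
    CharCore.IsCharacter.exists_classInner_irr_eq_natCast hΦ Y
  choose dg hdg0 hdg using fun Y : Cfsg.IrrCharacter G => CharCore.IsIrrCharacter.exists_degree Y.2
  choose v hv using fun Y : Cfsg.IrrCharacter G =>
    InvChar68.exists_int_value_involution S.z_ord Y (hdg Y)
  have hn : 0 < (H.index : ℝ) := Nat.cast_pos.2 (Nat.pos_of_ne_zero Subgroup.index_ne_zero_of_finite)
  have hexp : ∀ g : G, Phi H g = ∑ Y : Cfsg.IrrCharacter G, (a Y : ℂ) * (Y : G → ℂ) g := fun g => by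
    have h := congrFun (CharCore.IsCharacter.eq_sum_classInner hΦ) g
    simpa only [Finset.sum_apply, Pi.smul_apply, smul_eq_mul, ha] using h
  have h1 : ∑ Y, (a Y : ℝ) * dg Y = H.index * ((Nat.card K : ℝ) - 1) := by
    have h := hexp 1
    rw [S.Phi_one] at h
    simp only [hdg] at h
    exact_mod_cast h.symm
  have h2 : ∑ Y, (a Y : ℝ) * v Y = (Nat.card K : ℝ) - 1 := by
    have h := hexp z
    rw [S.Phi_z] at h
    simp only [fun Y => (hv Y).1] at h
    exact_mod_cast h.symm
  have h3 : ∑ Y, (a Y : ℝ) * ((v Y : ℝ) ^ 2 / dg Y) = ((Nat.card K : ℝ) - 1) / H.index := by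
    have h := S.class_equation
    simp only [ha, fun Y => (hv Y).1, hdg] at h
    refine Complex.ofReal_injective ?_
    push_cast
    exact h
  have hsq : ∑ Y, (a Y : ℝ) * (((H.index : ℝ) * v Y - dg Y) ^ 2 / dg Y) = 0 := by
    have hd : ∀ Y, (dg Y : ℝ) ≠ 0 := fun Y => Nat.cast_ne_zero.2 (hdg0 Y).ne'
    rw [Finset.sum_congr rfl (g := fun Y => (H.index : ℝ) ^ 2 * ((a Y : ℝ) * ((v Y : ℝ) ^ 2 / dg Y))
      - 2 * H.index * ((a Y : ℝ) * v Y) + (a Y : ℝ) * dg Y) fun Y _ => by
        have := hd Y; field_simp; ring]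
    rw [Finset.sum_add_distrib, Finset.sum_sub_distrib, ← Finset.mul_sum, ← Finset.mul_sum, h1, h2, h3]
    field_simp
    ring
  have hdeg : ∀ Y, a Y ≠ 0 → (dg Y : ℤ) = H.index * v Y := fun Y hY => by
    have h := (Finset.sum_eq_zero_iff_of_nonneg fun Y _ => by positivity).1 hsq Y (Finset.mem_univ _)
    rw [mul_eq_zero, div_eq_zero_iff, pow_eq_zero_iff two_ne_zero, sub_eq_zero] at h
    rcases h with h | h | h
    · exact absurd (Nat.cast_eq_zero.1 h) hY
    · exact_mod_cast h.symm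
    · exact absurd (Nat.cast_eq_zero.1 h) (hdg0 Y).ne'
  obtain ⟨t, ht⟩ := S.exists_t
  refine ⟨fun Y => a Y, v, t, Finset.univ.filter fun Y => a Y ≠ 0, ht, fun Y => by simpa using ha Y,
    fun Y hY => ?_, fun Y hY => ?_, fun Y hY => ?_, fun Y hY => ?_, ?_, ?_⟩
  · simpa using hY
  · have := Nat.pos_of_ne_zero (Finset.mem_filter.1 hY).2
    show (1 : ℤ) ≤ (a Y : ℤ)
    omega
  · by_contra hlt
    have hle : v Y ≤ 0 := by omega
    have h := hdeg Y (Finset.mem_filter.1 hY).2
    have h0 : (H.index : ℤ) * v Y ≤ 0 := mul_nonpos_of_nonneg_of_nonpos (Nat.cast_nonneg _) hle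
    have := hdg0 Y
    omega
  · rw [hdg Y]
    exact_mod_cast hdeg Y (Finset.mem_filter.1 hY).2
  · have h : ∑ Y, (a Y : ℤ) * v Y = (Nat.card K : ℤ) - 1 := by exact_mod_cast h2
    rw [Finset.sum_filter_of_ne fun Y _ hne => ?_, h]
    intro h0
    exact hne (by simp [h0])
  · have h := CharCore.sum_degree_sq (G := G)
    simp only [hdg] at h
    have h' : ∑ Y, (dg Y : ℤ) ^ 2 = (Nat.card G : ℤ) := by exact_mod_cast h
    have hle : (H.index : ℤ) ^ 2 * ∑ Y ∈ Finset.univ.filter (fun Y => a Y ≠ 0), v Y ^ 2 ≤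
        (Nat.card G : ℤ) := by
      rw [← h', Finset.mul_sum, Finset.sum_congr rfl (g := fun Y => (dg Y : ℤ) ^ 2) fun Y hY => by
        rw [hdeg Y (Finset.mem_filter.1 hY).2, mul_pow]]
      exact Finset.sum_le_sum_of_subset_of_nonneg (Finset.subset_univ _) fun i _ _ => sq_nonneg _
    have hGc : (Nat.card G : ℤ) = H.index * (((H.index : ℤ) - 1) * (Nat.card K * Nat.card B)) := by
      rw [← Subgroup.index_mul_card H, S.card_H_eq]
      push_cast [Nat.cast_sub (Nat.one_le_iff_ne_zero.2 (Subgroup.index_ne_zero_of_finite (H := H)))]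
      ring
    by_contra hlt
    push Not at hlt
    have hn' : (1 : ℤ) ≤ H.index := by exact_mod_cast Nat.one_le_iff_ne_zero.2 (Subgroup.index_ne_zero_of_finite (H := H))
    have h4 := mul_le_mul_of_nonneg_left hlt (sq_nonneg (H.index : ℤ))
    have h5 : 0 < (H.index : ℤ) * ((Nat.card K : ℤ) * Nat.card B) :=
      mul_pos (by linarith) (mul_pos (by exact_mod_cast Nat.card_pos) (by exact_mod_cast Nat.card_pos))
    nlinarith

theorem sum_R : ∑ Y : Cfsg.IrrCharacter G, ∑ f ∈ Finset.univ.erase (1 : K),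
    (Complex.normSq ((Y : G → ℂ) f) : ℝ) = ((Nat.card K : ℝ) - 1) * Nat.card K := by
  rw [Finset.sum_comm, Finset.sum_congr rfl (g := fun _ => (Nat.card K : ℝ)) fun f hf => ?_,
    Finset.sum_const, Finset.card_erase_of_mem (Finset.mem_univ _), Finset.card_univ, nsmul_eq_mul,
    Nat.cast_sub Fintype.card_pos, Nat.card_eq_fintype_card]
  · simp
  · refine Complex.ofReal_injective ?_
    have hf' : (f : G) ≠ 1 := fun e => (Finset.mem_erase.1 hf).1 (Subtype.ext e)
    have h := InvChar68.sum_mul_conj_self (f : G)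
    rw [S.cc.cent_eq f.2 hf'] at h
    push_cast
    simpa only [← Complex.mul_conj] using h

/-- The inner product of the character of `H` on its involutions is large. -/
theorem large (hodd : Odd (Nat.card B))
    (hsize : 6 * Nat.card B < Nat.card K ∨ (Nat.card K = 2 * Nat.card B + 1 ∧ Nat.card B ≤ 3))
    {s : ℕ} (hs : Cfsg.classInner (chi H) (chi H) = (s : ℂ)) (hs1 : 1 ≤ s) :
    Nat.card K - 1 ≤ Nat.card B * s := by
  have hr0 : 0 < Nat.card B := Nat.card_pos
  have hN : 3 ≤ Nat.card K := by omega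
  have hK0 : (Nat.card K : ℂ) ≠ 0 := Nat.cast_ne_zero.2 Nat.card_pos.ne'
  obtain ⟨a, e, t, P, ht, ha, ha0, ha1, he1, hdeg, hae, he2⟩ := S.exists_counts
  choose b hb using fun (Y : Cfsg.IrrCharacter G) (l : Cfsg.IrrCharacter K) =>
    Bender20.mult_natCast (CharCore.irr_isCharacter Y) l
  let x : Cfsg.IrrCharacter G → Cfsg.IrrCharacter K → ℤ := fun Y l => (b Y l : ℤ) - t * e Y
  have hae0 : ∑ Y, a Y * e Y = (Nat.card K : ℤ) - 1 := by
    rw [← hae]
    exact (Finset.sum_subset (Finset.subset_univ P) fun Y _ hY => by rw [ha0 Y hY, zero_mul]).symm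
  have hmult : ∀ l, Bender20.mult (Phi H) l =
      ∑ Y : Cfsg.IrrCharacter G, (a Y : ℂ) * (b Y l : ℂ) := fun l => by
    have hexp : ∀ g : G, Phi H g = ∑ Y : Cfsg.IrrCharacter G, (a Y : ℂ) * (Y : G → ℂ) g := fun g => by
      have h := congrFun (CharCore.IsCharacter.eq_sum_classInner S.isCharacter_Phi) g
      simpa only [Finset.sum_apply, Pi.smul_apply, smul_eq_mul, ha] using h
    simp only [← hb, Bender20.mult, Cfsg.classInner, hexp, Finset.sum_mul, Finset.mul_sum]
    rw [Finset.sum_comm]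
    exact Finset.sum_congr rfl fun Y _ => Finset.sum_congr rfl fun f _ => by ring
  have hcol : ∀ l, l ≠ Bender20.trivF K → ∑ Y ∈ P, a Y * x Y l = 2 := fun l hl => by
    rw [Finset.sum_subset (Finset.subset_univ P) fun Y _ hY => by rw [ha0 Y hY, zero_mul]]
    have h := S.mult_Phi l
    rw [if_neg hl, mul_zero, sub_zero, hmult] at h
    have h' : (Nat.card K : ℤ) * ∑ Y, a Y * (b Y l : ℤ) =
        (H.index : ℤ) * ((Nat.card K : ℤ) - 1) + 2 := by exact_mod_cast h
    have hne : (Nat.card K : ℤ) ≠ 0 := Int.natCast_ne_zero.2 Nat.card_pos.ne'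
    have h5 : ∑ Y, a Y * x Y l = (∑ Y, a Y * (b Y l : ℤ)) - t * ∑ Y, a Y * e Y := by
      rw [Finset.mul_sum, ← Finset.sum_sub_distrib]
      exact Finset.sum_congr rfl fun Y _ => by ring
    refine mul_left_cancel₀ hne ?_
    rw [h5, hae0, mul_sub, h', ht]
    ring
  have hsumx : ∀ Y ∈ P, ∑ l, x Y l = 2 * e Y := fun Y hY => by
    have h := Bender20.sum_mult S.cc (CharCore.irr_isCharacter Y)
    simp only [hb, hdeg Y hY] at h
    have h' : ∑ l, (b Y l : ℤ) = (H.index : ℤ) * e Y := by exact_mod_cast h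
    simp only [x, Finset.sum_sub_distrib, Finset.sum_const, Finset.card_univ, S.sum_one_irr,
      nsmul_eq_mul, h', ht]
    ring
  have hR : ∀ Y ∈ P, (Nat.card K : ℝ) * (∑ l, x Y l ^ 2 : ℤ) =
      (∑ f ∈ Finset.univ.erase (1 : K), Complex.normSq ((Y : G → ℂ) f)) + 4 * (e Y : ℝ) ^ 2 := by
    intro Y hY
    let g : K → ℂ := fun f => (Y : G → ℂ) f - if f = 1 then (t : ℂ) * e Y * Nat.card K else 0
    have hg : ∀ l : Cfsg.IrrCharacter K, Cfsg.classInner g (l : K → ℂ) = (x Y l : ℂ) := fun l => by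
      have h1 : Cfsg.classInner g (l : K → ℂ) = Bender20.mult (Y : G → ℂ) l - (t : ℂ) * e Y := by
        simp only [g, Bender20.mult, Cfsg.classInner, sub_mul, ite_mul, zero_mul, Finset.sum_sub_distrib,
          Finset.sum_ite_eq', Finset.mem_univ, if_true, Bender20.irr_degree_one S.cc, map_one, mul_one,
          mul_sub]
        field_simp
      rw [h1, hb]
      simp [x]
    have hgc : Cfsg.IsClassFunction K g := fun p q => by
      rw [show q * p * q⁻¹ = p from Subtype.ext (by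
        push_cast
        rw [S.cc.comm _ q.2 _ p.2, mul_inv_cancel_right])]
    have hpar := CharCore.classInner_eq_sum hgc hgc
    simp only [hg, map_intCast] at hpar
    have hg1 : g 1 = 2 * (e Y : ℂ) := by
      simp only [g, if_true, OneMemClass.coe_one, hdeg Y hY]
      rw [show (H.index : ℂ) = (Nat.card K : ℂ) * t + 2 by exact_mod_cast ht]
      ring
    rw [Cfsg.classInner, ← Finset.add_sum_erase _ _ (Finset.mem_univ (1 : K)), hg1,
      Finset.sum_congr rfl (g := fun f : K => (Complex.normSq ((Y : G → ℂ) f) : ℂ)) fun f hf => by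
        simp only [g, if_neg (Finset.mem_erase.1 hf).1, sub_zero, Complex.mul_conj],
      inv_mul_eq_iff_eq_mul₀ hK0] at hpar
    refine Complex.ofReal_injective ?_
    push_cast
    rw [Finset.sum_congr rfl (g := fun l => (x Y l : ℂ) * (x Y l : ℂ)) fun l _ => sq _, ← hpar]
    simp only [map_mul, map_ofNat, map_intCast]
    ring
  have hsq : ∑ Y ∈ P, ∑ l, x Y l ^ 2 < ((Nat.card K : ℤ) - 1) + 4 * Nat.card B := by
    have h1 : (Nat.card K : ℝ) * ((∑ Y ∈ P, ∑ l, x Y l ^ 2 : ℤ) : ℝ) ≤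
        ((Nat.card K : ℝ) - 1) * Nat.card K + 4 * ((∑ Y ∈ P, e Y ^ 2 : ℤ) : ℝ) := by
      rw [Int.cast_sum, Finset.mul_sum, Finset.sum_congr rfl hR, Finset.sum_add_distrib, ← S.sum_R,
        Int.cast_sum, Finset.mul_sum]
      refine add_le_add (Finset.sum_le_sum_of_subset_of_nonneg (Finset.subset_univ P)
        fun Y _ _ => Finset.sum_nonneg fun f _ => Complex.normSq_nonneg _) (le_of_eq ?_)
      exact Finset.sum_congr rfl fun Y _ => by push_cast; ring
    have h2 : (Nat.card K : ℤ) * (∑ Y ∈ P, ∑ l, x Y l ^ 2) ≤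
        ((Nat.card K : ℤ) - 1) * Nat.card K + 4 * ∑ Y ∈ P, e Y ^ 2 := by exact_mod_cast h1
    by_contra hlt
    push Not at hlt
    have h3 := mul_le_mul_of_nonneg_left hlt (Nat.cast_nonneg (α := ℤ) (Nat.card K))
    nlinarith [he2]
  have hsplit : ∀ φ : Cfsg.IrrCharacter K → ℤ,
      φ (Bender20.trivF K) + ∑ l : Lam K, φ l.1 = ∑ l, φ l := fun φ => by
    rw [← Finset.add_sum_erase _ _ (Finset.mem_univ (Bender20.trivF K))]
    congr 1
    exact (Finset.sum_subtype _ (fun l => by simp) φ).symm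
  have hrelx : ∀ l l' : Lam K, rel K l l' → ∀ Y, x Y l.1 = x Y l'.1 := fun l l' ⟨y, hy⟩ Y => by
    have h := Bender20.mult_cjChar (CharCore.irr_isClassFunction Y) y l.1
    rw [hy, hb, hb] at h
    simp only [x, Nat.cast_inj.1 h]
  have htot : ∀ l l' : Lam K, ¬ rel K l l' →
      ∑ Y, (x Y l.1 - x Y l'.1) ^ 2 = (2 : ℤ) := fun l l' hn => by
    have h := Bender20.sum_mult_sub_sq S.cc l.2 l'.2 (fun y hy => hn ⟨y, hy⟩)
      (fun y hy => hn (rel_symm ⟨y, hy⟩))
    simp only [hb, map_sub, map_natCast] at h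
    have h' : ∑ Y, ((b Y l.1 : ℤ) - b Y l'.1) * ((b Y l.1 : ℤ) - b Y l'.1) = 2 := by exact_mod_cast h
    rw [← h']
    exact Finset.sum_congr rfl fun Y _ => by ring
  have hout : ∀ l l' : Lam K, ¬ rel K l l' → ∑ Y ∈ P, (x Y l.1 - x Y l'.1) ^ 2 = 2 →
      ∀ Y ∉ P, x Y l.1 = x Y l'.1 := fun l l' hn h2 Y hY => by
    have h := htot l l' hn
    rw [← Finset.sum_add_sum_compl P, h2, add_eq_left] at h
    have := (Finset.sum_eq_zero_iff_of_nonneg fun y _ => sq_nonneg _).1 h Y (Finset.mem_compl.2 hY)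
    exact sub_eq_zero.1 (pow_eq_zero_iff two_ne_zero |>.1 this)
  have hnorm : (Nat.card B : ℤ) * ∑ Y ∈ P, a Y ^ 2 =
      (Nat.card B : ℤ) * s + ((Nat.card K : ℤ) - 1) := by
    have h := S.norm_Phi
    rw [hs, CharCore.classInner_eq_sum (CharCore.IsCharacter.isClassFunction S.isCharacter_Phi)
      (CharCore.IsCharacter.isClassFunction S.isCharacter_Phi)] at h
    simp only [ha, map_intCast] at h
    rw [Finset.sum_subset (Finset.subset_univ P) fun Y _ hY => by rw [ha0 Y hY]; ring]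
    have hB0 : (Nat.card B : ℂ) ≠ 0 := Nat.cast_ne_zero.2 Nat.card_pos.ne'
    field_simp at h
    have h' : (∑ Y, a Y * a Y) * (Nat.card B : ℤ) = (s : ℤ) * Nat.card B + ((Nat.card K : ℤ) - 1) := by
      simp only [← sq] at h ⊢
      exact_mod_cast h
    simp only [← sq] at h'
    linear_combination h'
  obtain ⟨m, hm⟩ := S.odd_card_K
  have hd : ((Nat.card K - 1 : ℕ) : ℤ) = (Nat.card K : ℤ) - 1 := by omega
  have C : Counts P a e (fun Y => x Y (Bender20.trivF K)) (fun Y (l : Lam K) => x Y l.1) (rel K)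
      (Nat.card B) (Nat.card K - 1) :=
    { a_pos := ha1
      e_pos := he1
      sum_ae := by rw [hd]; exact hae
      sum_x := fun Y hY => by rw [hsplit (x Y)]; exact hsumx Y hY
      sum_sq := by
        rw [hd, Finset.sum_congr rfl fun Y _ => hsplit fun l => x Y l ^ 2]
        exact hsq
      sum_e_sq := by rw [hd, sub_add_cancel]; exact he2
      col := fun l => hcol l.1 l.2
      card_eq := S.card_Lam
      rel_refl := rel_refl
      rel_card := S.rel_card
      rel_x := hrelx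
      pair := fun l l' hn => (Finset.sum_le_sum_of_subset_of_nonneg (Finset.subset_univ P)
        fun Y _ _ => sq_nonneg _).trans (le_of_eq (htot l l' hn))
      triple := fun l l' l'' h1 h2 h3 e1 e2' e3 => by
        have h := htot l l' h1
        rw [Finset.sum_eq_zero fun Y _ => ?_] at h
        · exact absurd h (by norm_num)
        by_cases hY : Y ∈ P
        · simp [e3 Y hY]
        · simp [hout l l'' h2 e1 Y hY, hout l' l'' h3 e2' Y hY]
      norm := by
        rw [hd, hnorm]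
        have h1 : (Nat.card B : ℤ) * 1 ≤ Nat.card B * s :=
          mul_le_mul_of_nonneg_left (by exact_mod_cast hs1) (Nat.cast_nonneg _)
        linarith
      r_odd := hodd
      d_even := ⟨m, by omega⟩
      size := by
        rcases hsize with h | ⟨h, h'⟩
        · left; omega
        · right; exact ⟨by omega, h'⟩ }
  have h := C.main
  rw [hnorm, hd] at h
  have h' : (((Nat.card K - 1 : ℕ) : ℤ)) ≤ ((Nat.card B * s : ℕ) : ℤ) := by
    rw [hd]; push_cast; linarith
  exact_mod_cast h'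

end Setup

end

end Cfsg.Agent.Bender42
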