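import Cfsg.Agent.Bender42.Constituent

/-!
The centraliser of an involution has on the involutions at its point the orbits of `B`.
-/

set_option autoImplicit false
set_option linter.unusedSectionVars false

namespace Cfsg.Agent.Bender42

open scoped ComplexConjugate Classical
open MulAction

noncomputable section

universe w

variable {G : Type w} [Group G] [Fintype G] {H K B : Subgroup G} {u z : G}

namespace Setup

variable (S : Setup H K B u z)
include S

theorem classInner_chi :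
    Cfsg.classInner (chi H) (chi H) =
      (Nat.card (Quotient (orbitRel H (Inv H × Inv H))) : ℂ) - 1 := by
  have hH0 : (Nat.card H : ℂ) ≠ 0 := Nat.cast_ne_zero.2 Nat.card_pos.ne'
  have htr : ∀ a b : Inv H, ∃ g : H, g • a = b := fun a b => by
    obtain ⟨k, rfl⟩ := S.pt_bij.2 a
    obtain ⟨l, rfl⟩ := S.pt_bij.2 b
    refine ⟨⟨(l : G) * (k : G)⁻¹, mul_mem (S.K_le l.2) (inv_mem (S.K_le k.2))⟩, Subtype.ext ?_⟩
    simp [smul_inv_coe, S.pt_coe, mul_assoc]
  have : Nonempty (Inv H) := ⟨S.pt 1⟩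
  have h1 := Bender20.classInner_permChar_one H (Inv H)
  rw [Bender20.card_orbits_one H _ htr, Nat.cast_one] at h1
  have h2 := Bender20.classInner_permChar H (Inv H) (Inv H)
  simp only [Cfsg.classInner, Pi.one_apply, map_one, mul_one] at h1 h2 ⊢
  rw [inv_mul_eq_iff_eq_mul₀ hH0] at h1 h2
  have h1' : ∑ g : H, conj (PermB.permChar H (Inv H) g) = (Nat.card H : ℂ) := by
    rw [← map_sum, h1, mul_one, map_natCast]
  rw [inv_mul_eq_iff_eq_mul₀ hH0,
    Finset.sum_congr rfl (g := fun g : H =>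
      PermB.permChar H (Inv H) g * conj (PermB.permChar H (Inv H) g) - PermB.permChar H (Inv H) g -
        conj (PermB.permChar H (Inv H) g) + 1) fun g _ => by
      simp only [chi, map_sub, map_one]; ring]
  simp only [Finset.sum_add_distrib, Finset.sum_sub_distrib, h1, h1', h2, Finset.sum_const,
    Finset.card_univ, nsmul_eq_mul, mul_one, Nat.card_eq_fintype_card (α := H)]
  ring

/-- The orbits of the centraliser of `z` on the involutions at its point are those of `B`. -/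
theorem cent_orbit (hodd : Odd (Nat.card B))
    (hsize : 6 * Nat.card B < Nat.card K ∨ (Nat.card K = 2 * Nat.card B + 1 ∧ Nat.card B ≤ 3))
    {h : G} (hh : h ∈ H) (hz : h * z * h⁻¹ = z) {k : G} (hk : k ∈ K) :
    ∃ b ∈ B, h * (k * z * k⁻¹) * h⁻¹ = b * k * b⁻¹ * z * (b * k * b⁻¹)⁻¹ := by
  by_cases hk1 : k = 1
  · refine ⟨1, one_mem _, ?_⟩
    subst hk1
    simpa using hz
  let Kn := {l : K // l ≠ 1}
  let Q := Quotient (orbitRel H (Inv H × Inv H))
  let g : Kn → Q := fun l => ⟦(S.pt 1, S.pt l.1)⟧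
  have hsurj : ∀ q : Q, q ≠ ⟦(S.pt 1, S.pt 1)⟧ → ∃ l, g l = q := by
    intro q
    refine Quotient.inductionOn q ?_
    rintro ⟨a, b⟩ hq
    obtain ⟨m, rfl⟩ := S.pt_bij.2 a
    obtain ⟨n, hn⟩ := S.pt_bij.2 ((⟨(m : G)⁻¹, inv_mem (S.K_le m.2)⟩ : H) • b)
    have hrel : (orbitRel H (Inv H × Inv H)).r (S.pt 1, S.pt n) (S.pt m, b) :=
      ⟨⟨(m : G)⁻¹, inv_mem (S.K_le m.2)⟩, Prod.ext (Subtype.ext (by
        simp [smul_inv_coe, S.pt_coe, mul_assoc])) hn.symm⟩
    by_cases hn1 : n = 1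
    · exact absurd (Quotient.sound hrel).symm (hn1 ▸ hq)
    · exact ⟨⟨n, hn1⟩, Quotient.sound hrel⟩
  have hne : ∀ l, g l ≠ ⟦(S.pt 1, S.pt 1)⟧ := fun l e => by
    obtain ⟨c, hc⟩ := Quotient.exact e
    have e1 : c • S.pt 1 = S.pt 1 := congrArg Prod.fst hc
    have e2 : c • S.pt 1 = S.pt l.1 := congrArg Prod.snd hc
    exact l.2 (S.pt_bij.1 (e2.symm.trans e1))
  obtain ⟨O, hO⟩ : ∃ O : Kn → Finset Kn, ∀ l, O l = Finset.univ.filter fun l' : Kn =>
      ∃ b ∈ B, b * (l.1 : G) * b⁻¹ = l'.1 := ⟨_, fun _ => rfl⟩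
  have hOc : ∀ l, (O l).card = Nat.card B := fun l => by
    rw [hO, ← Nat.card_eq_finsetCard]
    have hmem : ∀ b : B, b.1 * (l.1 : G) * (b.1)⁻¹ ∈ K := fun b => S.B_norm _ b.2 _ l.1.2
    have hne1 : ∀ b : B, (⟨_, hmem b⟩ : K) ≠ 1 := fun b e => l.2 (Subtype.ext (by
      have e' : b.1 * (l.1 : G) * (b.1)⁻¹ = 1 := congrArg Subtype.val e
      exact conj_eq_one_iff.1 e'))
    refine (Nat.card_eq_of_bijective (fun b : B =>
      (⟨⟨⟨_, hmem b⟩, hne1 b⟩, Finset.mem_filter.2 ⟨Finset.mem_univ _, b, b.2, rfl⟩⟩ :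
        {l' // l' ∈ Finset.univ.filter fun l' : Kn => ∃ b ∈ B, b * (l.1 : G) * b⁻¹ = l'.1}))
      ⟨fun b c e => ?_, ?_⟩).symm
    · have e' : b.1 * (l.1 : G) * (b.1)⁻¹ = c.1 * (l.1 : G) * (c.1)⁻¹ :=
        congrArg (fun x : {l' // l' ∈ Finset.univ.filter fun l' : Kn =>
          ∃ b ∈ B, b * (l.1 : G) * b⁻¹ = l'.1} => (x.1.1 : G)) e
      refine (Subtype.ext (inv_mul_eq_one.1 (S.B_fpf (mul_mem (inv_mem c.2) b.2) l.1.2
        (fun e1 => l.2 (Subtype.ext e1)) ?_))).symm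
      calc (c.1)⁻¹ * b.1 * (l.1 : G) * ((c.1)⁻¹ * b.1)⁻¹
          = (c.1)⁻¹ * (b.1 * (l.1 : G) * (b.1)⁻¹) * c.1 := by group
        _ = (l.1 : G) := by rw [e']; group
    · rintro ⟨l', hl'⟩
      obtain ⟨b, hb, e⟩ := (Finset.mem_filter.1 hl').2
      exact ⟨⟨b, hb⟩, Subtype.ext (Subtype.ext (Subtype.ext e))⟩
  have hOsub : ∀ l, O l ⊆ Finset.univ.filter (fun l' => g l' = g l) := fun l l' hl' => by
    rw [hO] at hl'
    obtain ⟨b, hb, e⟩ := (Finset.mem_filter.1 hl').2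
    refine Finset.mem_filter.2 ⟨Finset.mem_univ _, Quotient.sound ⟨⟨b, S.B_le hb⟩, Prod.ext ?_ ?_⟩⟩
    · refine Subtype.ext ?_
      simp [smul_inv_coe, S.pt_coe, ← (S.B_z b hb).eq]
    · refine Subtype.ext ?_
      show b * ((l.1 : G) * z * (l.1 : G)⁻¹) * b⁻¹ = _
      rw [S.B_act hb, e]
      rfl
  have himg : Finset.univ.image g = Finset.univ.erase ⟦(S.pt 1, S.pt 1)⟧ := by
    ext q
    simp only [Finset.mem_image, Finset.mem_univ, true_and, Finset.mem_erase, and_true]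
    exact ⟨fun ⟨l, hl⟩ => hl ▸ hne l, hsurj q⟩
  obtain ⟨s, hsd⟩ : ∃ s, s = (Finset.univ.image g).card := ⟨_, rfl⟩
  have hs : Cfsg.classInner (chi H) (chi H) = (s : ℂ) := by
    rw [S.classInner_chi, hsd, himg, Finset.card_erase_of_mem (Finset.mem_univ _), Finset.card_univ,
      Nat.cast_sub (Fintype.card_pos_iff.2 ⟨(⟦(S.pt 1, S.pt 1)⟧ : Q)⟩), Nat.card_eq_fintype_card, Nat.cast_one]
  have hs1 : 1 ≤ s := hsd ▸ Finset.card_pos.2
    ⟨g ⟨⟨k, hk⟩, fun e => hk1 (congrArg Subtype.val e)⟩, Finset.mem_image.2 ⟨_, Finset.mem_univ _, rfl⟩⟩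
  have hbound := S.large hodd hsize hs hs1
  -- every fibre is an orbit of `B`
  obtain ⟨k', hk'⟩ := S.pt_bij.2 ((⟨h, hh⟩ : H) • S.pt ⟨k, hk⟩)
  have hk'e : (k' : G) * z * (k' : G)⁻¹ = h * (k * z * k⁻¹) * h⁻¹ := congrArg Subtype.val hk'
  have hk'1 : k' ≠ 1 := fun e => by
    subst e
    refine hk1 (S.reg_unique hk (one_mem K) ?_)
    simp only [OneMemClass.coe_one, one_mul, inv_one, mul_one] at hk'e ⊢
    have e' : h * (k * z * k⁻¹) * h⁻¹ = h * z * h⁻¹ := hk'e.symm.trans hz.symm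
    exact mul_left_cancel (mul_right_cancel e')
  let l : Kn := ⟨⟨k, hk⟩, fun e => hk1 (congrArg Subtype.val e)⟩
  have hl' : (⟨k', hk'1⟩ : Kn) ∈ Finset.univ.filter (fun l' => g l' = g l) := by
    refine Finset.mem_filter.2 ⟨Finset.mem_univ _, Quotient.sound ⟨⟨h, hh⟩, Prod.ext ?_ hk'.symm⟩⟩
    refine Subtype.ext ?_
    simp [smul_inv_coe, S.pt_coe, hz]
  have hfib : Finset.univ.filter (fun l' => g l' = g l) ⊆ O l := by
    by_contra hnot
    have hlt : Nat.card B < (Finset.univ.filter (fun l' => g l' = g l)).card := by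
      rw [← hOc l]
      exact Finset.card_lt_card (Finset.ssubset_iff_subset_ne.2 ⟨hOsub l, fun e => hnot e.ge⟩)
    have hcard := Finset.card_eq_sum_card_image g (Finset.univ : Finset Kn)
    have hmem : g l ∈ Finset.univ.image g := Finset.mem_image.2 ⟨_, Finset.mem_univ _, rfl⟩
    have hlow : Nat.card B * s < (Finset.univ : Finset Kn).card := by
      rw [hcard, hsd, mul_comm, ← smul_eq_mul, ← Finset.sum_const]
      refine Finset.sum_lt_sum (fun q hq => ?_) ⟨g l, hmem, hlt⟩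
      obtain ⟨m, -, rfl⟩ := Finset.mem_image.1 hq
      rw [← hOc m]
      exact Finset.card_le_card (hOsub m)
    rw [Finset.card_univ, Fintype.card_subtype_compl, Fintype.card_subtype_eq,
      ← Nat.card_eq_fintype_card] at hlow
    omega
  have := hfib hl'
  rw [hO] at this
  obtain ⟨b, hb, e⟩ := (Finset.mem_filter.1 this).2
  exact ⟨b, hb, by rw [← hk'e]; simp only at e; rw [← e]⟩

end Setup

end

end Cfsg.Agent.Bender42
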